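import Cfsg.Agent.H819.U33.Base
import Cfsg.Agent.H913.U33.T3W

/-!
# S5525: words with different values (helper913)

`ne v w = true` (by `decide +kernel`) implies `g v ≠ g w`. The test applies both words to one random vector over `F₃`
(one number of 16384 bits, `T3*.lean`): about 0.4 ms for a letter (`xi`: 1.2 ms).
-/

set_option autoImplicit false

namespace Cfsg.Agent.H819.U33

open Cfsg.Agent.BabyM.Conc Cfsg.Agent.BabyM.Inst

/-- The words `v`, `w` have different values on a vector over `F₃`. -/
noncomputable def ne (v w : List Ltr) : Bool := Cfsg.Agent.H913.U33.T3.ne3 v w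

/-- **Different words.** -/
theorem ne_of {v w : List Ltr} (h : ne v w = true) : g v ≠ g w := by
  intro hg
  refine Cfsg.Agent.H913.U33.T3.ne3_W h ?_
  have h1 := congrArg (fun x : G => (x⁻¹ : G)) hg
  simp only [g, inv_inv] at h1
  exact congrArg Subtype.val h1

end Cfsg.Agent.H819.U33
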