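import Cfsg.Agent.H913.U33.PRun
import Cfsg.Agent.H819.U33.Base

/-!
# S5525: equality of words by the packed engine (helper913)

`chkP v w = true` (by `decide +kernel`) implies `g v = g w`; about 1 ms for a letter (`xi`: 4 ms).
-/

set_option autoImplicit false
set_option linter.unusedSectionVars false
set_option linter.unusedVariables false

namespace Cfsg.Agent.H913.U33.PK

open Cfsg.Agent.Lib.PermNet Cfsg.Agent.Monster Cfsg.Agent.Monster.VecEngine Cfsg.Agent.Monster.VecSpace
open Cfsg.Agent.BabyM.Conc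

attribute [local irreducible] pk

/-! ### The start vector -/

/-- Few small planes. -/
noncomputable def okE (x : Pl) : ℕ → Bool :=
  Pl.rec (motive := fun _ => ℕ → Bool)
    (fun s k => and (Nat.beq (Nat.shiftRight s 6144) 0) (Nat.ble k 17))
    (fun p _ ih k => and (Nat.beq (Nat.shiftRight p 6144) 0) (ih (Nat.add k 1))) x

theorem bt_bi (p i : ℕ) : bt p i = (bi p i : ℤ) := by
  unfold bt bi
  split_ifs <;> rfl

theorem encG_sgn (f : ℕ → ℕ) (s k acc : ℕ) : encG f (.sgn s) k acc = Nat.sub acc (Nat.shiftLeft (f s) k) := rfl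

theorem encG_cons (f : ℕ → ℕ) (p : ℕ) (L : Pl) (k acc : ℕ) : encG f (.cons p L) k acc =
    encG f L (Nat.add k 1) (Nat.add acc (Nat.shiftLeft (f p) k)) := rfl

theorem encG_eq (x : Pl) (k : ℕ) (hx : okE x k = true) (a : ℕ → ℕ) (ha : ∀ i, 131072 ≤ a i)
    (hb : ∀ i, a i < 131072 + 2 ^ k) :
    ∃ y, Bd y ∧ encG spr x k (pq a) = pq y ∧ ∀ i, (y i : ℤ) = a i + 2 ^ k * val x i := by
  induction x generalizing k a with
  | sgn s =>
    have hx' : and (Nat.beq (Nat.shiftRight s 6144) 0) (Nat.ble k 17) = true := hx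
    obtain ⟨a1, a2⟩ := and_elim hx'
    have hS : Sm s := Nat.eq_of_beq_eq_true a1
    have hk : k ≤ 17 := Nat.le_of_ble_eq_true a2
    have h17 : 2 ^ k ≤ 131072 := by
      calc 2 ^ k ≤ 2 ^ 17 := Nat.pow_le_pow_right (by norm_num) hk
        _ = 131072 := by norm_num
    have hle : ∀ i, bi s i * 2 ^ k ≤ a i := by
      intro i
      have := ha i
      rcases bi_cases s i with ⟨-, h⟩ | ⟨-, h⟩ <;> rw [h] <;> omega
    refine ⟨fun i => a i - bi s i * 2 ^ k, fun i => ?_, ?_, fun i => ?_⟩
    · have := hb i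
      show a i - bi s i * 2 ^ k ≤ 262144
      omega
    · rw [encG_sgn, nsub, nshl, spr_bi hS, Nat.shiftLeft_eq, pk_mul, pk_sub]
      exact fun i _ => hle i
    · show ((a i - bi s i * 2 ^ k : ℕ) : ℤ) = _
      rw [val_sgn, bt_bi, Nat.cast_sub (hle i)]
      push_cast
      ring
  | cons p L ih =>
    have hx' : and (Nat.beq (Nat.shiftRight p 6144) 0) (okE L (k + 1)) = true := hx
    obtain ⟨a1, a2⟩ := and_elim hx'
    have hS : Sm p := Nat.eq_of_beq_eq_true a1
    obtain ⟨y, hy, he, hv⟩ := ih (k + 1) a2 (fun i => a i + bi p i * 2 ^ k) (fun i => by have := ha i; show _ ≤ a i + _; omega)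
      (fun i => by
        have := hb i
        show a i + bi p i * 2 ^ k < _
        rw [pow_succ]
        rcases bi_cases p i with ⟨-, h⟩ | ⟨-, h⟩ <;> rw [h] <;> omega)
    refine ⟨y, hy, ?_, fun i => ?_⟩
    · rw [encG_cons, nadd, nadd, nshl, spr_bi hS, Nat.shiftLeft_eq, pk_mul, pk_add]
      exact he
    · rw [hv, val_cons, bt_bi]
      push_cast
      ring

theorem start_eq : ∃ y, Bd y ∧ start = pq y ∧ vl y = vec ℚ Cfsg.Agent.BabyM.WordsInst.vB := by
  obtain ⟨y, hy, he, hv⟩ := encG_eq Cfsg.Agent.BabyM.WordsInst.vB 0 (by decide +kernel) (fun _ => 131072)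
    (fun _ => le_refl _) (fun _ => by norm_num)
  refine ⟨y, hy, ?_, ?_⟩
  · rw [← he]
    unfold start
    rw [nmul]
    unfold allO
    rw [ones_eq (by norm_num), pk_mul]
  · funext i
    have h := hv i
    show vl y i = ((val Cfsg.Agent.BabyM.WordsInst.vB i : ℤ) : ℚ)
    by_cases hi : i < 6144
    · rw [vl_lt hi]
      have h' := congrArg (fun n : ℤ => (n : ℚ)) h
      push_cast at h'
      linarith
    · rw [vl_ge hi]
      have : val Cfsg.Agent.BabyM.WordsInst.vB i = 0 := by
        have hz : ∀ (x : Pl) (k : ℕ), okE x k = true → val x i = 0 := by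
          intro x
          induction x with
          | sgn s =>
            intro k hk
            have hk' : and (Nat.beq (Nat.shiftRight s 6144) 0) (Nat.ble k 17) = true := hk
            have hS : Sm s := Nat.eq_of_beq_eq_true (and_elim hk').1
            rw [val_sgn, bt_bi, hS.bi (by omega)]
            rfl
          | cons p L ih =>
            intro k hk
            have hk' : and (Nat.beq (Nat.shiftRight p 6144) 0) (okE L (k + 1)) = true := hk
            have hS : Sm p := Nat.eq_of_beq_eq_true (and_elim hk').1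
            rw [val_cons, bt_bi, hS.bi (by omega), ih _ (and_elim hk').2]
            rfl
        exact hz _ 0 (by decide +kernel)
      rw [this]
      simp

/-- **The test is sound.** -/
theorem chkP_sound {v w : List Ltr} (h : chkP v w = true) :
    W v (vecU ℚ U Cfsg.Agent.BabyM.WordsInst.vB) = W w (vecU ℚ U Cfsg.Agent.BabyM.WordsInst.vB) := by
  unfold chkP at h
  rw [seqB_eq] at h
  obtain ⟨y0, hy0, hs, hv0⟩ := start_eq
  rw [hs] at h
  obtain ⟨y, hy, hv, h⟩ := runW_sound v hy0 h
  obtain ⟨z, hz, hw, h⟩ := runW_sound w hy0 h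
  have h1 : pq y = pq z := Nat.eq_of_beq_eq_true h
  have h2 : vl y = vl z := by
    funext i
    by_cases hi : i < 6144
    · rw [vl_lt hi, vl_lt hi, pk_inj (fun i _ => hy.lt i) (fun i _ => hz.lt i) h1 i hi]
    · rw [vl_ge hi, vl_ge hi]
  rw [hv, hw, hv0] at h2
  rw [W_apply, W_apply, vecU_eq, ← res_semL ℚ (m := 2 ^ 13) (fun P hP => (good_progs v P hP).pres),
    ← res_semL ℚ (m := 2 ^ 13) (fun P hP => (good_progs w P hP).pres), h2]

end Cfsg.Agent.H913.U33.PK

namespace Cfsg.Agent.H819.U33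

open Cfsg.Agent.BabyM.Conc Cfsg.Agent.BabyM.Inst Cfsg.Agent.BabyM.WordsInst Cfsg.Agent.BabyM.Model Cfsg.Agent.Monster.VecSpace

/-- The words `v`, `w` have the same value on the vector of the base (fast engine, same meaning as `chk`). -/
noncomputable def chkP (v w : List Ltr) : Bool := Cfsg.Agent.H913.U33.PK.chkP v w

/-- **Equality of words** by the fast engine. -/
theorem eq_ofP {v w : List Ltr} (h : chkP v w = true) : g v = g w := by
  have h1 : W v (vecU ℚ U vB) = W w (vecU ℚ U vB) := Cfsg.Agent.H913.U33.PK.chkP_sound h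
  rw [v_eq, map_smul, map_smul] at h1
  have h2 := smul_right_injective V (show (16 : ℚ) ≠ 0 by norm_num) h1
  have hv : W v ∈ M.G := Cfsg.Agent.BabyM.InstMem.W_mem_G _
  have hw : W w ∈ M.G := Cfsg.Agent.BabyM.InstMem.W_mem_G _
  have h3 : (W w)⁻¹ * W v = 1 := by
    apply base.eq_one Cfsg.Agent.BabyM.Instance.all Cfsg.Agent.BabyM.Instance.ok _ (M.G.mul_mem (M.G.inv_mem hw) hv)
    rw [LinearEquiv.mul_apply, h2, inv_apply_self']
  rw [inv_mul_eq_one] at h3
  unfold g
  congr 1
  exact Subtype.ext h3.symm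

theorem comm_ofP {v w : List Ltr} (h : chkP (v ++ w) (w ++ v) = true) : g v * g w = g w * g v := by
  rw [← g_append, ← g_append, eq_ofP h]

end Cfsg.Agent.H819.U33
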