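import Cfsg.Agent.H913.U33.POps

/-!
# S5525: butterflies of the packed engine (helper913)
-/

set_option autoImplicit false
set_option linter.unusedSectionVars false
set_option linter.unusedVariables false

namespace Cfsg.Agent.H913.U33.PK

open Cfsg.Agent.Lib.PermNet Cfsg.Agent.Monster.VecEngine

attribute [local irreducible] pk

/-- the partner of the lane `i` -/
def fB (M d : ℕ) (y : ℕ → ℕ) (i : ℕ) : ℕ := (if i + d < 6144 then y (i + d) else 0) * bi M i

/-- the sum -/
def fS (M d : ℕ) (y : ℕ → ℕ) (i : ℕ) : ℕ := y i * bi M i + fB M d y i + bi M i * 393216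

/-- the difference -/
def fD (M d : ℕ) (y : ℕ → ℕ) (i : ℕ) : ℕ := y i * bi M i + bi M i * 655360 - fB M d y i

/-- the result -/
def fR (M d : ℕ) (y : ℕ → ℕ) (i : ℕ) : ℕ :=
  y i - y i * bi M i - (if d ≤ i then fB M d y (i - d) else 0) + (fS M d y i - bi M i * 524288) +
    (if d ≤ i then fD M d y (i - d) - bi M (i - d) * 524288 else 0)

section bf

variable {M d : ℕ} (h1 : M &&& (M >>> d) = 0) (h2 : M >>> (6144 - d) = 0) {y : ℕ → ℕ} (hy : Bd y)

include h1 h2 hy

theorem fB_le (i : ℕ) : fB M d y i ≤ bi M i * 262144 := by
  unfold fB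
  rcases bi_cases M i with ⟨-, h⟩ | ⟨-, h⟩
  · rw [h, mul_one, one_mul]
    split_ifs
    · exact hy _
    · omega
  · rw [h]; omega

theorem fB_of {i : ℕ} (hi : M.testBit i = true) : i + d < 6144 ∧ fB M d y i = y (i + d) := by
  have hlt : i + d < 6144 := by
    by_contra h
    rw [bit_of h2 (by omega)] at hi
    exact absurd hi (by simp)
  refine ⟨hlt, ?_⟩
  unfold fB bi
  rw [if_pos hlt, hi, if_pos rfl, mul_one]

theorem fB_of_not {i : ℕ} (hi : M.testBit i = false) : fB M d y i = 0 := by
  unfold fB bi
  rw [hi]
  simp

theorem fS_lt (i : ℕ) : fS M d y i < 2 ^ 20 := by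
  have h3 := fB_le h1 h2 hy i
  have := hy i
  unfold fS
  rcases bi_cases M i with ⟨-, h⟩ | ⟨-, h⟩ <;> rw [h] at h3 ⊢ <;> norm_num <;> omega

theorem fD_lt (i : ℕ) : fD M d y i < 2 ^ 20 := by
  have h3 := fB_le h1 h2 hy i
  have := hy i
  unfold fD
  rcases bi_cases M i with ⟨-, h⟩ | ⟨-, h⟩ <;> rw [h] at h3 ⊢ <;> norm_num <;> omega

theorem bfP_sound {k : ℕ → Bool} (hk : bfP M d (pq y) k = true) :
    ∃ y', Bd y' ∧ vl y' = (fun i => if M.testBit i then vl y i + vl y (i + d)
      else if d ≤ i ∧ M.testBit (i - d) then vl y (i - d) - vl y i else vl y i) ∧ k (pq y') = true := by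
  have hS := sm_of h2
  unfold bfP at hk
  rw [seqB_eq, seqB_eq, seqB_eq, seqB_eq] at hk
  have eA : Nat.land (pq y) (fm M) = pq fun i => y i * bi M i := by rw [nland, land_fm hS hy.lt]
  have eB : Nat.land (Nat.shiftRight (pq y) (Nat.mul 20 d)) (fm M) = pq (fB M d y) := by
    rw [nland, nshr, nmul, pk_shr (by norm_num) (fun i _ => hy.lt i), land_fm hS]
    · rfl
    · intro i
      show (if i + d < 6144 then y (i + d) else 0) < 2 ^ 20
      split_ifs
      · exact hy.lt _
      · norm_num
  rw [eA, eB] at hk
  have eS : Nat.add (Nat.add (pq fun i => y i * bi M i) (pq (fB M d y))) (cm M 393216) = pq (fS M d y) := by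
    rw [nadd, nadd, cm_eq hS, pk_add, pk_add]
    rfl
  have eD : Nat.sub (Nat.add (pq fun i => y i * bi M i) (cm M 655360)) (pq (fB M d y)) = pq (fD M d y) := by
    rw [nadd, nsub, cm_eq hS, pk_add, pk_sub]
    · rfl
    · intro i _
      have := fB_le h1 h2 hy i
      omega
  rw [eS, eD] at hk
  obtain ⟨c1, hk⟩ := and_elim hk
  obtain ⟨c2, hk⟩ := and_elim hk
  rw [seqB_eq] at hk
  have g1 := chkG_spec hS (fS_lt h1 h2 hy) c1
  have g2 := chkG_spec hS (fD_lt h1 h2 hy) c2
  -- the pieces of the result
  have sS : ∀ i, bi M i * 524288 ≤ fS M d y i := by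
    intro i
    rcases bi_cases M i with ⟨h3, h4⟩ | ⟨h3, h4⟩
    · rw [h4]; have := (g1 i h3).1; omega
    · rw [h4]; omega
  have sD : ∀ i, bi M i * 524288 ≤ fD M d y i := by
    intro i
    rcases bi_cases M i with ⟨h3, h4⟩ | ⟨h3, h4⟩
    · rw [h4]; have := (g2 i h3).1; omega
    · rw [h4]; omega
  have e1 : Nat.sub (pq y) (pq fun i => y i * bi M i) = pq fun i => y i - y i * bi M i := by
    rw [nsub, pk_sub]
    intro i _
    rcases bi_cases M i with ⟨h3, h4⟩ | ⟨h3, h4⟩ <;> rw [h4] <;> omega
  have e2 : Nat.shiftLeft (pq (fB M d y)) (Nat.mul 20 d) = pq fun i => if d ≤ i then fB M d y (i - d) else 0 := by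
    rw [nshl, nmul, pk_shl (by norm_num)]
    · intro i _
      have := fB_le h1 h2 hy i
      rcases bi_cases M i with ⟨h3, h4⟩ | ⟨h3, h4⟩ <;> rw [h4] at this <;> norm_num <;> omega
    · intro i _ hi
      exact fB_of_not h1 h2 hy (bit_of h2 hi)
  have dis : ∀ i, d ≤ i → M.testBit (i - d) = true → M.testBit i = false := by
    intro i hd hb
    have := testBit_and_shift h1 _ hb
    rwa [Nat.sub_add_cancel hd] at this
  have e3 : Nat.sub (pq fun i => y i - y i * bi M i) (pq fun i => if d ≤ i then fB M d y (i - d) else 0) =
      pq fun i => y i - y i * bi M i - (if d ≤ i then fB M d y (i - d) else 0) := by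
    rw [nsub, pk_sub]
    intro i _
    split_ifs with hd
    · cases hb : M.testBit (i - d) with
      | false => rw [fB_of_not h1 h2 hy hb]; omega
      | true =>
        rw [(fB_of h1 h2 hy hb).2, Nat.sub_add_cancel hd]
        have h4 : bi M i = 0 := by unfold bi; rw [dis i hd hb]; rfl
        rw [h4]; omega
    · omega
  have e4 : Nat.sub (pq (fS M d y)) (cm M 524288) = pq fun i => fS M d y i - bi M i * 524288 := by
    rw [nsub, cm_eq hS, pk_sub]
    exact fun i _ => sS i
  have e5 : Nat.sub (pq (fD M d y)) (cm M 524288) = pq fun i => fD M d y i - bi M i * 524288 := by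
    rw [nsub, cm_eq hS, pk_sub]
    exact fun i _ => sD i
  have e6 : Nat.shiftLeft (pq fun i => fD M d y i - bi M i * 524288) (Nat.mul 20 d) =
      pq fun i => if d ≤ i then fD M d y (i - d) - bi M (i - d) * 524288 else 0 := by
    rw [nshl, nmul, pk_shl (by norm_num)]
    · intro i _
      have := fD_lt h1 h2 hy i
      omega
    · intro i _ hi
      have h3 := bit_of h2 hi
      have h4 : bi M i = 0 := by unfold bi; rw [h3]; rfl
      unfold fD
      rw [fB_of_not h1 h2 hy h3, h4]
      omega
  rw [e1, e2, e3, e4, e5, e6, nadd, nadd, pk_add, pk_add] at hk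
  refine ⟨fR M d y, ?_, ?_, hk⟩
  · -- bounds
    intro i
    have hyi := hy i
    unfold fR
    cases hm : M.testBit i with
    | true =>
      have h4 : bi M i = 1 := by unfold bi; rw [hm]; rfl
      have hz : d ≤ i → M.testBit (i - d) = false := by
        intro hd
        by_contra hb
        have := dis i hd (by simpa using hb)
        rw [hm] at this
        exact absurd this (by simp)
      have g := g1 i hm
      rw [h4]
      split_ifs with hd
      · have h5 := hz hd
        have h6 : bi M (i - d) = 0 := by unfold bi; rw [h5]; rfl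
        unfold fD
        rw [fB_of_not h1 h2 hy h5, h6]
        omega
      · omega
    | false =>
      have h4 : bi M i = 0 := by unfold bi; rw [hm]; rfl
      have h7 : fS M d y i = 0 := by unfold fS; rw [fB_of_not h1 h2 hy hm, h4]; simp
      rw [h4, h7]
      split_ifs with hd
      · cases hb : M.testBit (i - d) with
        | false =>
          have h6 : bi M (i - d) = 0 := by unfold bi; rw [hb]; rfl
          unfold fD
          rw [fB_of_not h1 h2 hy hb, h6]
          omega
        | true =>
          have h6 : bi M (i - d) = 1 := by unfold bi; rw [hb]; rfl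
          have g := g2 _ hb
          rw [h6, (fB_of h1 h2 hy hb).2, Nat.sub_add_cancel hd]
          omega
      · omega
  · funext i
    by_cases hi : i < 6144
    · rw [vl_lt hi]
      unfold fR
      cases hm : M.testBit i with
      | true =>
        obtain ⟨hlt, hB⟩ := fB_of h1 h2 hy hm
        have h4 : bi M i = 1 := by unfold bi; rw [hm]; rfl
        have hz : d ≤ i → M.testBit (i - d) = false := by
          intro hd
          by_contra hb
          have := dis i hd (by simpa using hb)
          rw [hm] at this
          exact absurd this (by simp)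
        have g := g1 i hm
        rw [if_pos rfl, vl_lt hi, vl_lt hlt]
        have e : y i - y i * bi M i - (if d ≤ i then fB M d y (i - d) else 0) + (fS M d y i - bi M i * 524288) +
            (if d ≤ i then fD M d y (i - d) - bi M (i - d) * 524288 else 0) + 131072 = y i + y (i + d) := by
          rw [h4]
          unfold fS at g ⊢
          rw [hB, h4] at g ⊢
          split_ifs with hd
          · have h5 := hz hd
            have h6 : bi M (i - d) = 0 := by unfold bi; rw [h5]; rfl
            unfold fD
            rw [fB_of_not h1 h2 hy h5, h6]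
            omega
          · omega
        have e' := congrArg (fun n : ℕ => (n : ℚ)) e
        push_cast at e' ⊢
        linarith
      | false =>
        have h4 : bi M i = 0 := by unfold bi; rw [hm]; rfl
        have h7 : fS M d y i = 0 := by unfold fS; rw [fB_of_not h1 h2 hy hm, h4]; simp
        rw [if_neg (show ¬ (false = true) by simp)]
        by_cases hd : d ≤ i
        · cases hb : M.testBit (i - d) with
          | true =>
            have h6 : bi M (i - d) = 1 := by unfold bi; rw [hb]; rfl
            have g := g2 _ hb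
            have hB := (fB_of h1 h2 hy hb).2
            rw [Nat.sub_add_cancel hd] at hB
            rw [if_pos (show d ≤ i ∧ true = true from ⟨hd, rfl⟩), vl_lt hi, vl_lt (by omega : i - d < 6144)]
            have e : y i - y i * bi M i - (if d ≤ i then fB M d y (i - d) else 0) + (fS M d y i - bi M i * 524288) +
                (if d ≤ i then fD M d y (i - d) - bi M (i - d) * 524288 else 0) + y i = y (i - d) + 131072 := by
              rw [h4, h7, if_pos hd, if_pos hd]
              unfold fD at g ⊢
              rw [hB, h6] at g ⊢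
              omega
            have e' := congrArg (fun n : ℕ => (n : ℚ)) e
            push_cast at e' ⊢
            linarith
          | false =>
            have h6 : bi M (i - d) = 0 := by unfold bi; rw [hb]; rfl
            rw [if_neg (show ¬ (d ≤ i ∧ false = true) by simp), vl_lt hi]
            have e : y i - y i * bi M i - (if d ≤ i then fB M d y (i - d) else 0) + (fS M d y i - bi M i * 524288) +
                (if d ≤ i then fD M d y (i - d) - bi M (i - d) * 524288 else 0) = y i := by
              rw [h4, h7, if_pos hd, if_pos hd]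
              unfold fD
              rw [fB_of_not h1 h2 hy hb, h6]
              omega
            rw [e]
        · rw [if_neg (show ¬ (d ≤ i ∧ M.testBit (i - d) = true) from fun h => hd h.1), vl_lt hi]
          have e : y i - y i * bi M i - (if d ≤ i then fB M d y (i - d) else 0) + (fS M d y i - bi M i * 524288) +
              (if d ≤ i then fD M d y (i - d) - bi M (i - d) * 524288 else 0) = y i := by
            rw [h4, h7, if_neg hd, if_neg hd]
            omega
          rw [e]
    · have hm : M.testBit i = false := hS.bit (by omega)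
      rw [vl_ge hi, if_neg (show ¬ (M.testBit i = true) by rw [hm]; simp), vl_ge hi]
      by_cases hb : d ≤ i ∧ M.testBit (i - d) = true
      · have := (fB_of h1 h2 hy hb.2).1
        omega
      · rw [if_neg hb]

end bf

end Cfsg.Agent.H913.U33.PK
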