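import Cfsg.Agent.BabyM.WordsInst

/-!
# S5525: vectors over `ℤ` in one natural number (helper913)

6144 lanes of 20 bits; the lane `y` stands for the value `y - 2 ^ 17`, `y ≤ 2 ^ 18`.
-/

set_option autoImplicit false

namespace Cfsg.Agent.H913.U33.PK

open Cfsg.Agent.Lib.PermNet Cfsg.Agent.Monster Cfsg.Agent.Monster.VecEngine Cfsg.Agent.BabyM.Conc

/-- `c` ones with distance `W` -/
noncomputable def ones (W c : ℕ) : ℕ :=
  Nat.div (Nat.sub (Nat.shiftLeft 1 (Nat.mul W c)) 1) (Nat.sub (Nat.shiftLeft 1 W) 1)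

/-- One step of the spread: blocks of `2 * a` bits at distance `40 * a` become blocks of `a` bits at distance `20 * a`. -/
noncomputable def sp (a c x : ℕ) : ℕ :=
  Nat.add (Nat.land x (Nat.mul (ones (Nat.mul 40 a) c) (Nat.sub (Nat.shiftLeft 1 a) 1)))
    (Nat.shiftLeft (Nat.land x (Nat.mul (ones (Nat.mul 40 a) c) (Nat.shiftLeft (Nat.sub (Nat.shiftLeft 1 a) 1) a)))
      (Nat.mul 19 a))

/-- The spread of a mask: the bit `i` goes to the bit `20 * i`. -/
noncomputable def spr (M : ℕ) : ℕ :=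
  sp 1 4096 (sp 2 2048 (sp 4 1024 (sp 8 512 (sp 16 256 (sp 32 128 (sp 64 64 (sp 128 32 (sp 256 16 (sp 512 8
    (sp 1024 4 (sp 2048 2 (sp 4096 1 M))))))))))))

/-- `spr M` times a constant -/
noncomputable def cm (M c : ℕ) : ℕ := Nat.mul (spr M) c

/-- full lanes: `2 ^ 20 - 1` -/
noncomputable def fm (M : ℕ) : ℕ := cm M 1048575

noncomputable def negP (M N : ℕ) : ℕ :=
  Nat.sub (Nat.add N (cm M 262144)) (Nat.shiftLeft (Nat.land N (fm M)) 1)

/-- check: the lanes of `M` are in `[2 ^ 19, 2 ^ 19 + 2 ^ 18)` -/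
noncomputable def chkG (M T : ℕ) : Bool := Nat.beq (Nat.land T (cm M 786432)) (cm M 524288)

noncomputable def dblT (M N : ℕ) : ℕ := Nat.add (Nat.add N (Nat.land N (fm M))) (cm M 393216)

noncomputable def dblP (M N : ℕ) (k : ℕ → Bool) : Bool :=
  seqB (dblT M N) fun T => and (chkG M T) (seqB (Nat.sub T (cm M 524288)) k)

/-- all lanes: the number 1 in each lane -/
noncomputable def allO : ℕ := ones 20 6144

noncomputable def halfP (N : ℕ) (k : ℕ → Bool) : Bool :=
  and (Nat.beq (Nat.land N allO) 0) (seqB (Nat.shiftRight (Nat.add N (Nat.mul allO 131072)) 1) k)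

noncomputable def bfP (M d N : ℕ) (k : ℕ → Bool) : Bool :=
  seqB (Nat.land N (fm M)) fun A =>
  seqB (Nat.land (Nat.shiftRight N (Nat.mul 20 d)) (fm M)) fun B =>
  seqB (Nat.add (Nat.add A B) (cm M 393216)) fun T =>
  seqB (Nat.sub (Nat.add A (cm M 655360)) B) fun T' =>
  and (chkG M T) (and (chkG M T')
    (seqB (Nat.add (Nat.add (Nat.sub (Nat.sub N A) (Nat.shiftLeft B (Nat.mul 20 d))) (Nat.sub T (cm M 524288)))
      (Nat.shiftLeft (Nat.sub T' (cm M 524288)) (Nat.mul 20 d))) k))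

noncomputable def netP (L : Net) : ℕ → (ℕ → Bool) → Bool :=
  Net.rec (motive := fun _ => ℕ → (ℕ → Bool) → Bool) (fun N k => k N)
    (fun M d _ ih N k => seqB (stage (fm M) (Nat.mul 20 d) N) fun y => ih y k) L

noncomputable def runP (P : Prog) : ℕ → (ℕ → Bool) → Bool :=
  Prog.rec (motive := fun _ => ℕ → (ℕ → Bool) → Bool)
    (fun N k => k N)
    (fun L _ ih N k => netP L N fun y => ih y k)
    (fun M _ ih N k => seqB (negP M N) fun y => ih y k)
    (fun M _ ih N k => dblP M N fun y => ih y k)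
    (fun _ ih N k => halfP N fun y => ih y k)
    (fun M d _ ih N k => bfP M d N fun y => ih y k) P

noncomputable def runW (v : List Ltr) : ℕ → (ℕ → Bool) → Bool :=
  List.rec (motive := fun _ => ℕ → (ℕ → Bool) → Bool) (fun N k => k N)
    (fun l _ ih N k => runP l.prog N fun y => ih y k) v

/-- Encode planes. -/
noncomputable def encG (f : ℕ → ℕ) (x : Pl) : ℕ → ℕ → ℕ :=
  Pl.rec (motive := fun _ => ℕ → ℕ → ℕ) (fun s k acc => Nat.sub acc (Nat.shiftLeft (f s) k))
    (fun p _ ih k acc => ih (Nat.add k 1) (Nat.add acc (Nat.shiftLeft (f p) k))) x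

noncomputable def start : ℕ := encG spr Cfsg.Agent.BabyM.WordsInst.vB 0 (Nat.mul allO 131072)

/-- **The test**: the words have the same value on the vector of the base. -/
noncomputable def chkP (v w : List Ltr) : Bool :=
  seqB start fun N => runW v N fun y => runW w N fun z => Nat.beq y z

end Cfsg.Agent.H913.U33.PK
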