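import Cfsg.Agent.H913.U33.PDef

/-!
# S5525: numbers with lanes (helper913)
-/

set_option autoImplicit false
set_option linter.unusedSectionVars false
set_option linter.unusedVariables false

namespace Cfsg.Agent.H913.U33.PK

open Cfsg.Agent.Lib.PermNet

/-- The number with the lanes `y i`, `i < c`, of width `W`. -/
def pk (W c : ℕ) (y : ℕ → ℕ) : ℕ := ∑ i ∈ Finset.range c, y i * 2 ^ (W * i)

theorem pk_succ (W c : ℕ) (y : ℕ → ℕ) : pk W (c + 1) y = pk W c y + y c * 2 ^ (W * c) := Finset.sum_range_succ _ _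

theorem pk_zero {W c : ℕ} : (pk W c fun _ => 0) = 0 := by unfold pk; simp

theorem pk_congr {W c : ℕ} {y z : ℕ → ℕ} (h : ∀ i < c, y i = z i) : pk W c y = pk W c z :=
  Finset.sum_congr rfl fun i hi => by rw [h i (Finset.mem_range.1 hi)]

theorem pk_add (W c : ℕ) (y z : ℕ → ℕ) : pk W c y + pk W c z = pk W c fun i => y i + z i := by
  unfold pk
  rw [← Finset.sum_add_distrib]
  exact Finset.sum_congr rfl fun i _ => by ring

theorem pk_mul (W c : ℕ) (y : ℕ → ℕ) (a : ℕ) : pk W c y * a = pk W c fun i => y i * a := by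
  unfold pk
  rw [Finset.sum_mul]
  exact Finset.sum_congr rfl fun i _ => by ring

theorem pk_sub {W c : ℕ} {y z : ℕ → ℕ} (h : ∀ i < c, z i ≤ y i) : pk W c y - pk W c z = pk W c fun i => y i - z i := by
  have h1 : pk W c z + pk W c (fun i => y i - z i) = pk W c y := by
    rw [pk_add]
    exact pk_congr fun i hi => by have := h i hi; omega
  omega

theorem pk_lt {W c : ℕ} {y : ℕ → ℕ} (h : ∀ i < c, y i < 2 ^ W) : pk W c y < 2 ^ (W * c) := by
  induction c with
  | zero => simp [pk]
  | succ c ih =>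
    rw [pk_succ]
    have h1 := ih fun i hi => h i (by omega)
    have h2 := h c (by omega)
    have h3 : (y c + 1) * 2 ^ (W * c) ≤ 2 ^ W * 2 ^ (W * c) := Nat.mul_le_mul_right _ h2
    rw [← pow_add] at h3
    have h4 : W + W * c = W * (c + 1) := by ring
    rw [h4] at h3
    rw [add_mul, one_mul] at h3
    omega

theorem testBit_pk {W c : ℕ} {y : ℕ → ℕ} (h : ∀ i < c, y i < 2 ^ W) (i : ℕ) {r : ℕ} (hr : r < W) :
    (pk W c y).testBit (W * i + r) = (decide (i < c) && (y i).testBit r) := by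
  induction c with
  | zero => simp [pk]
  | succ c ih =>
    have h1 : pk W c y < 2 ^ (W * c) := pk_lt fun i hi => h i (by omega)
    rw [pk_succ, add_comm, mul_comm (y c), Nat.testBit_two_pow_mul_add _ h1]
    have hi := ih fun i hi => h i (by omega)
    rcases lt_trichotomy i c with h2 | h2 | h2
    · have h3 : W * i + r < W * c := by
        have : W * (i + 1) ≤ W * c := Nat.mul_le_mul_left _ h2
        rw [mul_add, mul_one] at this
        omega
      rw [if_pos h3, hi]
      simp [h2, Nat.lt_succ_of_lt h2]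
    · subst h2
      rw [if_neg (by omega), Nat.add_sub_cancel_left]
      simp
    · have h3 : W * c + W ≤ W * i := by
        have : W * (c + 1) ≤ W * i := Nat.mul_le_mul_left _ h2
        rwa [mul_add, mul_one] at this
      rw [if_neg (by omega)]
      have h4 : ¬ i < c + 1 := by omega
      simp only [h4, decide_false, Bool.false_and]
      apply Nat.testBit_lt_two_pow
      exact lt_of_lt_of_le (h c (by omega)) (Nat.pow_le_pow_right (by norm_num) (by omega))

theorem split (W : ℕ) (hW : 0 < W) (p : ℕ) : ∃ i r, r < W ∧ p = W * i + r :=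
  ⟨p / W, p % W, Nat.mod_lt _ hW, (Nat.div_add_mod p W).symm⟩

theorem eq_pk {W c x : ℕ} {y : ℕ → ℕ} (hW : 0 < W) (h : ∀ i < c, y i < 2 ^ W)
    (hx : ∀ i r, r < W → x.testBit (W * i + r) = (decide (i < c) && (y i).testBit r)) : x = pk W c y := by
  apply Nat.eq_of_testBit_eq
  intro p
  obtain ⟨i, r, hr, rfl⟩ := split W hW p
  rw [hx i r hr, testBit_pk h i hr]

theorem pk_land {W c : ℕ} {y z : ℕ → ℕ} (hW : 0 < W) (hy : ∀ i < c, y i < 2 ^ W) (hz : ∀ i < c, z i < 2 ^ W) :
    pk W c y &&& pk W c z = pk W c fun i => y i &&& z i := by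
  apply eq_pk hW (fun i hi => lt_of_le_of_lt Nat.and_le_left (hy i hi))
  intro i r hr
  rw [Nat.testBit_and, testBit_pk hy i hr, testBit_pk hz i hr, Nat.testBit_and]
  cases decide (i < c) <;> simp

theorem pk_inj {W c : ℕ} {y z : ℕ → ℕ} (hy : ∀ i < c, y i < 2 ^ W) (hz : ∀ i < c, z i < 2 ^ W)
    (h : pk W c y = pk W c z) (i : ℕ) (hi : i < c) : y i = z i := by
  apply Nat.eq_of_testBit_eq
  intro r
  by_cases hr : r < W
  · have := congrArg (fun x => Nat.testBit x (W * i + r)) h
    simp only [testBit_pk hy i hr, testBit_pk hz i hr, hi, decide_true, Bool.true_and] at this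
    exact this
  · rw [Nat.testBit_lt_two_pow (lt_of_lt_of_le (hy i hi) (Nat.pow_le_pow_right (by norm_num) (by omega))),
      Nat.testBit_lt_two_pow (lt_of_lt_of_le (hz i hi) (Nat.pow_le_pow_right (by norm_num) (by omega)))]

/-- Shift to the right by `d` lanes. -/
theorem pk_shr {W c : ℕ} {y : ℕ → ℕ} (hW : 0 < W) (hy : ∀ i < c, y i < 2 ^ W) (d : ℕ) :
    pk W c y >>> (W * d) = pk W c fun i => if i + d < c then y (i + d) else 0 := by
  apply eq_pk hW
  · intro i hi
    split_ifs with h1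
    · exact hy _ h1
    · positivity
  · intro i r hr
    rw [Nat.testBit_shiftRight, show W * d + (W * i + r) = W * (i + d) + r by ring, testBit_pk hy _ hr]
    by_cases h1 : i + d < c
    · have : i < c := by omega
      simp [h1, this]
    · simp [h1]

/-- Shift to the left by `d` lanes. -/
theorem pk_shl {W c : ℕ} {y : ℕ → ℕ} (hW : 0 < W) (hy : ∀ i < c, y i < 2 ^ W) (d : ℕ)
    (h0 : ∀ i < c, c ≤ i + d → y i = 0) :
    pk W c y <<< (W * d) = pk W c fun i => if d ≤ i then y (i - d) else 0 := by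
  apply eq_pk hW
  · intro i hi
    split_ifs with h1
    · exact hy _ (by omega)
    · positivity
  · intro i r hr
    rw [Nat.testBit_shiftLeft]
    by_cases h1 : d ≤ i
    · have h2 : W * d ≤ W * i + r := le_trans (Nat.mul_le_mul_left _ h1) (Nat.le_add_right _ _)
      have h3 : W * i + r - W * d = W * (i - d) + r := by
        obtain ⟨e, rfl⟩ := Nat.exists_eq_add_of_le h1
        rw [Nat.add_sub_cancel_left, mul_add]
        omega
      rw [h3, testBit_pk hy _ hr]
      simp only [h1, h2, decide_true, Bool.true_and, if_true]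
      by_cases h4 : i < c
      · have h5 : i - d < c := by omega
        simp [h4, h5]
      · by_cases h5 : i - d < c
        · rw [h0 _ h5 (by omega)]
          simp
        · simp [h4, h5]
    · have h2 : ¬ W * d ≤ W * i + r := by
        have : W * (i + 1) ≤ W * d := Nat.mul_le_mul_left _ (by omega)
        rw [mul_add, mul_one] at this
        omega
      simp [h1, h2]

/-! ### Ones and the spread -/

theorem ones_eq {W : ℕ} (hW : 0 < W) (c : ℕ) : ones W c = pk W c fun _ => 1 := by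
  have h1 : ones W c = (2 ^ (W * c) - 1) / (2 ^ W - 1) := by
    show (1 <<< (W * c) - 1) / (1 <<< W - 1) = _
    rw [Nat.shiftLeft_eq, Nat.shiftLeft_eq, one_mul, one_mul]
  have h2 : 2 ≤ 2 ^ W := by
    calc 2 = 2 ^ 1 := by norm_num
      _ ≤ 2 ^ W := Nat.pow_le_pow_right (by norm_num) hW
  rw [h1, pow_mul, ← Nat.geomSum_eq h2]
  unfold pk
  exact Finset.sum_congr rfl fun i _ => by rw [one_mul, pow_mul]

theorem pk_double (W c : ℕ) (y z : ℕ → ℕ) :
    (pk (2 * W) c fun i => y i + z i * 2 ^ W) = pk W (2 * c) fun i => if i % 2 = 0 then y (i / 2) else z (i / 2) := by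
  induction c with
  | zero => simp [pk]
  | succ c ih =>
    rw [pk_succ, ih, show 2 * (c + 1) = 2 * c + 1 + 1 by ring, pk_succ, pk_succ, add_assoc]
    congr 1
    rw [if_pos (by omega), if_neg (by omega), show 2 * c / 2 = c by omega, show (2 * c + 1) / 2 = c by omega,
      show W * (2 * c + 1) = 2 * W * c + W by ring, show W * (2 * c) = 2 * W * c by ring, pow_add]
    ring

/-- the block `i` of `a` bits -/
def blk (a M i : ℕ) : ℕ := (M >>> (a * i)) % 2 ^ a

theorem blk_lt (a M i : ℕ) : blk a M i < 2 ^ a := Nat.mod_lt _ (by positivity)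

theorem testBit_blk (a M i r : ℕ) : (blk a M i).testBit r = (decide (r < a) && M.testBit (a * i + r)) := by
  unfold blk
  rw [Nat.testBit_mod_two_pow, Nat.testBit_shiftRight]

theorem land_hi {a Y : ℕ} (hY : Y < 2 ^ (2 * a)) : Y &&& ((2 ^ a - 1) <<< a) = Y / 2 ^ a * 2 ^ a := by
  rw [← Nat.shiftLeft_eq, ← Nat.shiftRight_eq_div_pow]
  apply Nat.eq_of_testBit_eq
  intro r
  rw [Nat.testBit_and, Nat.testBit_shiftLeft, Nat.testBit_shiftLeft, Nat.testBit_two_pow_sub_one,
    Nat.testBit_shiftRight]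
  by_cases h1 : a ≤ r
  · rw [show a + (r - a) = r by omega]
    by_cases h2 : r - a < a
    · simp [h1, h2]
    · rw [Nat.testBit_lt_two_pow (lt_of_lt_of_le hY (Nat.pow_le_pow_right (by norm_num) (by omega)))]
      simp
  · simp [h1]

theorem sp_eq {a : ℕ} (ha : 0 < a) (c M : ℕ) :
    sp a c (pk (40 * a) c (blk (2 * a) M)) = pk (20 * a) (2 * c) (blk a M) := by
  have hlt : ∀ i, blk (2 * a) M i < 2 ^ (2 * a) := fun i => blk_lt _ _ _
  have hle : (2 : ℕ) ^ (2 * a) ≤ 2 ^ (40 * a) := Nat.pow_le_pow_right (by norm_num) (by omega)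
  have h1 : sp a c (pk (40 * a) c (blk (2 * a) M)) =
      (pk (40 * a) c (blk (2 * a) M) &&& (ones (40 * a) c * (1 <<< a - 1))) +
      ((pk (40 * a) c (blk (2 * a) M) &&& (ones (40 * a) c * ((1 <<< a - 1) <<< a))) <<< (19 * a)) := rfl
  have h2 : (2 : ℕ) ^ a - 1 < 2 ^ (40 * a) :=
    lt_of_lt_of_le (Nat.sub_lt (by positivity) one_pos) (Nat.pow_le_pow_right (by norm_num) (by omega))
  have h3 : (2 ^ a - 1) <<< a < 2 ^ (40 * a) := by
    rw [Nat.shiftLeft_eq]
    calc (2 ^ a - 1) * 2 ^ a < 2 ^ a * 2 ^ a :=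
          Nat.mul_lt_mul_of_pos_right (Nat.sub_lt (by positivity) one_pos) (by positivity)
      _ = 2 ^ (a + a) := (pow_add _ _ _).symm
      _ ≤ 2 ^ (40 * a) := Nat.pow_le_pow_right (by norm_num) (by omega)
  rw [h1, ones_eq (by omega), Nat.shiftLeft_eq 1 a, one_mul, pk_mul, pk_mul,
    pk_land (by omega) (fun i _ => lt_of_lt_of_le (hlt i) hle) (fun i _ => by rw [one_mul]; exact h2),
    pk_land (by omega) (fun i _ => lt_of_lt_of_le (hlt i) hle) (fun i _ => by rw [one_mul]; exact h3),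
    Nat.shiftLeft_eq _ (19 * a), pk_mul, pk_add]
  have h4 : (pk (40 * a) c fun i => (blk (2 * a) M i &&& 1 * (2 ^ a - 1)) +
      (blk (2 * a) M i &&& 1 * ((2 ^ a - 1) <<< a)) * 2 ^ (19 * a)) =
      pk (2 * (20 * a)) c fun i => blk (2 * a) M i % 2 ^ a + blk (2 * a) M i / 2 ^ a * 2 ^ (20 * a) := by
    rw [show 2 * (20 * a) = 40 * a by ring]
    apply pk_congr
    intro i _
    rw [one_mul, one_mul, Nat.and_two_pow_sub_one_eq_mod, land_hi (hlt i), mul_assoc, ← pow_add,
      show a + 19 * a = 20 * a by ring]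
  rw [h4, pk_double (20 * a) c (fun i => blk (2 * a) M i % 2 ^ a) (fun i => blk (2 * a) M i / 2 ^ a)]
  apply pk_congr
  intro i _
  have hd := Nat.div_add_mod i 2
  split_ifs with h5
  · have h6 : 2 * a * (i / 2) = a * i := by
      calc 2 * a * (i / 2) = a * (2 * (i / 2)) := by ring
        _ = a * i := by congr 1; omega
    unfold blk
    rw [Nat.mod_mod_of_dvd _ (pow_dvd_pow 2 (by omega)), h6]
  · have h6 : 2 * a * (i / 2) + a = a * i := by
      calc 2 * a * (i / 2) + a = a * (2 * (i / 2) + 1) := by ring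
        _ = a * i := by congr 1; omega
    apply Nat.eq_of_testBit_eq
    intro r
    rw [← Nat.shiftRight_eq_div_pow, Nat.testBit_shiftRight, testBit_blk, testBit_blk, ← h6]
    rw [show 2 * a * (i / 2) + (a + r) = 2 * a * (i / 2) + a + r by ring]
    by_cases hr : r < a
    · have : a + r < 2 * a := by omega
      simp [hr, this]
    · have : ¬ a + r < 2 * a := by omega
      simp [hr, this]

theorem sp_eq' {a c W b W' c' : ℕ} (ha : 0 < a) (hW : W = 40 * a) (hb : b = 2 * a) (hW' : W' = 20 * a) (hc : c' = 2 * c)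
    (M : ℕ) : sp a c (pk W c (blk b M)) = pk W' c' (blk a M) := by
  subst hW hb hW' hc
  exact sp_eq ha c M

theorem spr_eq {M : ℕ} (h : M < 2 ^ 8192) : spr M = pk 20 8192 (blk 1 M) := by
  have h0 : M = pk 163840 1 (blk 8192 M) := by
    unfold pk
    rw [Finset.sum_range_one, Nat.mul_zero, pow_zero, mul_one]
    unfold blk
    rw [Nat.mul_zero, Nat.shiftRight_zero, Nat.mod_eq_of_lt h]
  unfold spr
  conv_lhs => rw [h0]
  rw [
    sp_eq' (a := 4096) (c := 1) (W := 163840) (b := 8192) (W' := 81920) (c' := 2) (by norm_num) rfl rfl rfl rfl,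
    sp_eq' (a := 2048) (c := 2) (W := 81920) (b := 4096) (W' := 40960) (c' := 4) (by norm_num) rfl rfl rfl rfl,
    sp_eq' (a := 1024) (c := 4) (W := 40960) (b := 2048) (W' := 20480) (c' := 8) (by norm_num) rfl rfl rfl rfl,
    sp_eq' (a := 512) (c := 8) (W := 20480) (b := 1024) (W' := 10240) (c' := 16) (by norm_num) rfl rfl rfl rfl,
    sp_eq' (a := 256) (c := 16) (W := 10240) (b := 512) (W' := 5120) (c' := 32) (by norm_num) rfl rfl rfl rfl,
    sp_eq' (a := 128) (c := 32) (W := 5120) (b := 256) (W' := 2560) (c' := 64) (by norm_num) rfl rfl rfl rfl,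
    sp_eq' (a := 64) (c := 64) (W := 2560) (b := 128) (W' := 1280) (c' := 128) (by norm_num) rfl rfl rfl rfl,
    sp_eq' (a := 32) (c := 128) (W := 1280) (b := 64) (W' := 640) (c' := 256) (by norm_num) rfl rfl rfl rfl,
    sp_eq' (a := 16) (c := 256) (W := 640) (b := 32) (W' := 320) (c' := 512) (by norm_num) rfl rfl rfl rfl,
    sp_eq' (a := 8) (c := 512) (W := 320) (b := 16) (W' := 160) (c' := 1024) (by norm_num) rfl rfl rfl rfl,
    sp_eq' (a := 4) (c := 1024) (W := 160) (b := 8) (W' := 80) (c' := 2048) (by norm_num) rfl rfl rfl rfl,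
    sp_eq' (a := 2) (c := 2048) (W := 80) (b := 4) (W' := 40) (c' := 4096) (by norm_num) rfl rfl rfl rfl,
    sp_eq' (a := 1) (c := 4096) (W := 40) (b := 2) (W' := 20) (c' := 8192) (by norm_num) rfl rfl rfl rfl]

/-- the bit `i` as a number -/
def bi (M i : ℕ) : ℕ := if M.testBit i then 1 else 0

theorem bi_lt (M i : ℕ) : bi M i < 2 := by unfold bi; split_ifs <;> omega

theorem blk_one (M i : ℕ) : blk 1 M i = bi M i := by
  unfold blk bi
  rw [pow_one, one_mul, Nat.testBit_eq_decide_div_mod_eq, Nat.shiftRight_eq_div_pow]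
  have := Nat.mod_two_eq_zero_or_one (M / 2 ^ i)
  rcases this with h | h <;> simp [h]

/-- masks on 6144 lanes -/
def Sm (M : ℕ) : Prop := M >>> 6144 = 0

theorem Sm.bit {M i : ℕ} (h : Sm M) (hi : 6144 ≤ i) : M.testBit i = false := by
  have := congrArg (fun x => Nat.testBit x (i - 6144)) h
  simp only [Nat.testBit_shiftRight, Nat.zero_testBit] at this
  rwa [Nat.add_sub_cancel' hi] at this

theorem Sm.bi {M i : ℕ} (h : Sm M) (hi : 6144 ≤ i) : bi M i = 0 := by
  unfold PK.bi
  rw [h.bit hi]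
  rfl

theorem Sm.lt {M : ℕ} (h : Sm M) : M < 2 ^ 8192 := by
  have h1 : M / 2 ^ 6144 = 0 := by rw [← Nat.shiftRight_eq_div_pow]; exact h
  have h2 : M < 2 ^ 6144 := by
    rcases Nat.div_eq_zero_iff.1 h1 with h3 | h3
    · exact absurd h3 (by positivity)
    · exact h3
  exact lt_of_lt_of_le h2 (Nat.pow_le_pow_right (by norm_num) (by norm_num))

theorem pk_cut {W : ℕ} {y : ℕ → ℕ} (a b : ℕ) (h : ∀ i, a ≤ i → y i = 0) : pk W (a + b) y = pk W a y := by
  induction b with
  | zero => rfl
  | succ b ih => rw [← add_assoc, pk_succ, ih, h _ (by omega), zero_mul, add_zero]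

theorem spr_bi {M : ℕ} (h : Sm M) : spr M = pk 20 6144 (bi M) := by
  rw [spr_eq h.lt]
  rw [show (blk 1 M) = bi M from funext (blk_one M)]
  exact pk_cut 6144 2048 fun i hi => h.bi hi

theorem cm_eq {M : ℕ} (h : Sm M) (a : ℕ) : cm M a = pk 20 6144 fun i => bi M i * a := by
  show spr M * a = _
  rw [spr_bi h, pk_mul]

end Cfsg.Agent.H913.U33.PK
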