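import Cfsg.Agent.H913.U33.PLem

/-!
# S5525: the operations of the packed engine (helper913)
-/

set_option autoImplicit false
set_option linter.unusedSectionVars false
set_option linter.unusedVariables false

namespace Cfsg.Agent.H913.U33.PK

open Cfsg.Agent.Lib.PermNet Cfsg.Agent.Monster.VecEngine

/-- 6144 lanes of 20 bits -/
abbrev pq (y : ℕ → ℕ) : ℕ := pk 20 6144 y

/-- the values -/
def vl (y : ℕ → ℕ) : ℕ → ℚ := fun i => if i < 6144 then (y i : ℚ) - 131072 else 0

theorem vl_lt {y : ℕ → ℕ} {i : ℕ} (h : i < 6144) : vl y i = (y i : ℚ) - 131072 := if_pos h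

theorem vl_ge {y : ℕ → ℕ} {i : ℕ} (h : ¬ i < 6144) : vl y i = 0 := if_neg h

theorem nsub (a b : ℕ) : Nat.sub a b = a - b := rfl

theorem nadd (a b : ℕ) : Nat.add a b = a + b := rfl

theorem nmul (a b : ℕ) : Nat.mul a b = a * b := rfl

theorem nland (a b : ℕ) : Nat.land a b = a &&& b := rfl

theorem nshl (a b : ℕ) : Nat.shiftLeft a b = a <<< b := rfl

theorem nshr (a b : ℕ) : Nat.shiftRight a b = a >>> b := rfl

attribute [local irreducible] pk

/-- bounded lanes -/
def Bd (y : ℕ → ℕ) : Prop := ∀ i, y i ≤ 262144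

theorem Bd.lt {y : ℕ → ℕ} (h : Bd y) (i : ℕ) : y i < 2 ^ 20 := by have := h i; norm_num; omega

theorem bi_cases (M i : ℕ) : (M.testBit i = true ∧ bi M i = 1) ∨ (M.testBit i = false ∧ bi M i = 0) := by
  unfold bi
  cases M.testBit i <;> simp

theorem testBit_fm {M : ℕ} (h : Sm M) (i : ℕ) {r : ℕ} (hr : r < 20) : (fm M).testBit (20 * i + r) = M.testBit i := by
  unfold fm
  rw [cm_eq h, testBit_pk _ i hr]
  · rcases bi_cases M i with ⟨h1, h2⟩ | ⟨h1, h2⟩
    · have hi : i < 6144 := by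
        by_contra h3
        rw [h.bit (by omega)] at h1
        exact absurd h1 (by simp)
      rw [h1, h2, one_mul, show 1048575 = 2 ^ 20 - 1 by norm_num, Nat.testBit_two_pow_sub_one]
      simp [hi, hr]
    · rw [h1, h2, zero_mul, Nat.zero_testBit, Bool.and_false]
  · intro i _
    have := bi_lt M i
    norm_num
    omega

section stage

variable {M d : ℕ} (h1 : M &&& (M >>> d) = 0) (h2 : M >>> (6144 - d) = 0)

include h2 in
theorem sm_of : Sm M := by
  unfold Sm
  apply Nat.eq_of_testBit_eq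
  intro i
  rw [Nat.testBit_shiftRight, Nat.zero_testBit]
  have := congrArg (fun x => Nat.testBit x (6144 + i - (6144 - d))) h2
  simp only [Nat.testBit_shiftRight, Nat.zero_testBit] at this
  rwa [Nat.add_sub_cancel' (by omega : 6144 - d ≤ 6144 + i)] at this

include h2 in
theorem bit_of {i : ℕ} (hi : 6144 ≤ i + d) : M.testBit i = false := by
  have := congrArg (fun x => Nat.testBit x (i - (6144 - d))) h2
  simp only [Nat.testBit_shiftRight, Nat.zero_testBit] at this
  rwa [Nat.add_sub_cancel' (by omega : 6144 - d ≤ i)] at this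

include h1 h2

theorem fm_and : fm M &&& (fm M >>> (20 * d)) = 0 := by
  have hS := sm_of h2
  apply Nat.eq_of_testBit_eq
  intro p
  obtain ⟨i, r, hr, rfl⟩ := split 20 (by norm_num) p
  rw [Nat.testBit_and, Nat.testBit_shiftRight, Nat.zero_testBit, testBit_fm hS i hr,
    show 20 * d + (20 * i + r) = 20 * (i + d) + r by ring, testBit_fm hS _ hr]
  cases hb : M.testBit i with
  | false => rfl
  | true => rw [testBit_and_shift h1 i hb]; rfl

theorem tau_fm (i : ℕ) {r : ℕ} (hr : r < 20) : tau (fm M) (20 * d) (20 * i + r) = 20 * tau M d i + r := by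
  have hS := sm_of h2
  unfold tau
  rw [testBit_fm hS i hr]
  by_cases hb : M.testBit i = true
  · rw [if_pos hb, if_pos hb]; ring
  · rw [if_neg hb, if_neg hb]
    by_cases hd : d ≤ i
    · have e : 20 * i + r - 20 * d = 20 * (i - d) + r := by omega
      rw [e, testBit_fm hS _ hr]
      by_cases hc : M.testBit (i - d) = true
      · rw [if_pos ⟨by omega, hc⟩, if_pos ⟨hd, hc⟩]
      · rw [if_neg (fun h => hc h.2), if_neg (fun h => hc h.2)]
    · rw [if_neg (show ¬ (d ≤ i ∧ M.testBit (i - d) = true) from fun h => hd h.1), if_neg]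
      rintro ⟨hd2, -⟩
      omega

theorem stage_pk {y : ℕ → ℕ} (hy : Bd y) : stage (fm M) (20 * d) (pq y) = pq fun i => y (tau M d i) := by
  apply eq_pk (by norm_num) (fun i _ => hy.lt _)
  intro i r hr
  rw [testBit_stage (fm_and h1 h2), stagePerm_apply (fm_and h1 h2), tau_fm h1 h2 i hr, testBit_pk (fun i _ => hy.lt i) _ hr]
  by_cases hi : i < 6144
  · have := tau_lt h2 hi
    simp [hi, this]
  · rw [tau_eq_of_le h2 (by omega)]

theorem stage_vl (y : ℕ → ℕ) (i : ℕ) : vl (fun i => y (tau M d i)) i = vl y (tau M d i) := by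
  by_cases hi : i < 6144
  · rw [vl_lt hi, vl_lt (tau_lt h2 hi)]
  · rw [tau_eq_of_le h2 (by omega), vl_ge hi, vl_ge hi]

end stage

theorem land_fm {M : ℕ} (h : Sm M) {y : ℕ → ℕ} (hy : ∀ i, y i < 2 ^ 20) : pq y &&& fm M = pq fun i => y i * bi M i := by
  unfold fm
  rw [cm_eq h, pk_land (by norm_num) (fun i _ => hy i) (fun i _ => by have := bi_lt M i; norm_num; omega)]
  apply pk_congr
  intro i _
  rcases bi_cases M i with ⟨-, h2⟩ | ⟨-, h2⟩
  · rw [h2, one_mul, mul_one, show 1048575 = 2 ^ 20 - 1 by norm_num, Nat.and_two_pow_sub_one_eq_mod,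
      Nat.mod_eq_of_lt (hy i)]
  · rw [h2, zero_mul, mul_zero, Nat.and_zero]

/-! ### Signs -/

theorem negP_eq {M : ℕ} (h : Sm M) {y : ℕ → ℕ} (hy : Bd y) :
    negP M (pq y) = pq fun i => y i + bi M i * 262144 - y i * bi M i * 2 := by
  unfold negP
  rw [nsub, nadd, nshl, nland, land_fm h hy.lt, Nat.shiftLeft_eq, pow_one, pk_mul, cm_eq h, pk_add, pk_sub]
  intro i _
  have := hy i
  rcases bi_cases M i with ⟨-, h2⟩ | ⟨-, h2⟩ <;> rw [h2] <;> omega

theorem neg_bd {M : ℕ} {y : ℕ → ℕ} (hy : Bd y) : Bd fun i => y i + bi M i * 262144 - y i * bi M i * 2 := by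
  intro i
  have := hy i
  show y i + bi M i * 262144 - y i * bi M i * 2 ≤ 262144
  rcases bi_cases M i with ⟨-, h2⟩ | ⟨-, h2⟩ <;> rw [h2] <;> omega

theorem neg_vl {M : ℕ} (h : Sm M) {y : ℕ → ℕ} (hy : Bd y) (i : ℕ) :
    vl (fun i => y i + bi M i * 262144 - y i * bi M i * 2) i = if M.testBit i then - vl y i else vl y i := by
  by_cases hi : i < 6144
  · rw [vl_lt hi, vl_lt hi]
    beta_reduce
    have := hy i
    rcases bi_cases M i with ⟨h1, h2⟩ | ⟨h1, h2⟩
    · rw [h1, h2, if_pos rfl]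
      have e : y i + 1 * 262144 - y i * 1 * 2 + y i = 262144 := by omega
      have e2 : ((y i + 1 * 262144 - y i * 1 * 2 : ℕ) : ℚ) + (y i : ℚ) = 262144 := by exact_mod_cast e
      linarith
    · rw [h1, h2]
      have e : y i + 0 * 262144 - y i * 0 * 2 = y i := by omega
      rw [e]
      simp
  · rw [vl_ge hi, vl_ge hi]
    simp

/-! ### The guard -/

theorem land_hi' {a b Y : ℕ} (hY : Y < 2 ^ (a + b)) : Y &&& ((2 ^ b - 1) <<< a) = Y / 2 ^ a * 2 ^ a := by
  rw [← Nat.shiftLeft_eq, ← Nat.shiftRight_eq_div_pow]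
  apply Nat.eq_of_testBit_eq
  intro r
  rw [Nat.testBit_and, Nat.testBit_shiftLeft, Nat.testBit_shiftLeft, Nat.testBit_two_pow_sub_one,
    Nat.testBit_shiftRight]
  by_cases h1 : a ≤ r
  · rw [show a + (r - a) = r by omega]
    by_cases h2 : r - a < b
    · simp [h1, h2]
    · rw [Nat.testBit_lt_two_pow (lt_of_lt_of_le hY (Nat.pow_le_pow_right (by norm_num) (by omega)))]
      simp
  · simp [h1]

theorem guard {T : ℕ} (hT : T < 2 ^ 20) (h : T &&& 786432 = 524288) : 524288 ≤ T ∧ T < 786432 := by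
  have h1 := land_hi' (a := 18) (b := 2) (Y := T) hT
  rw [show (2 ^ 2 - 1) <<< 18 = 786432 by rfl, h] at h1
  norm_num at h1
  omega

theorem chkG_spec {M : ℕ} (h : Sm M) {T : ℕ → ℕ} (hT : ∀ i, T i < 2 ^ 20) (hc : chkG M (pq T) = true) (i : ℕ)
    (hi : M.testBit i = true) : 524288 ≤ T i ∧ T i < 786432 := by
  have h1 : pq T &&& cm M 786432 = cm M 524288 := by
    unfold chkG at hc
    rw [nland] at hc
    exact Nat.eq_of_beq_eq_true hc
  have hb : ∀ (a : ℕ), a < 2 ^ 20 → ∀ i < 6144, bi M i * a < 2 ^ 20 := by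
    intro a ha i _
    rcases bi_cases M i with ⟨-, h2⟩ | ⟨-, h2⟩ <;> rw [h2] <;> omega
  rw [cm_eq h, cm_eq h, pk_land (by norm_num) (fun i _ => hT i) (hb _ (by norm_num))] at h1
  have hlt : i < 6144 := by
    by_contra h3
    rw [h.bit (by omega)] at hi
    exact absurd hi (by simp)
  have h2 := pk_inj (fun i hi => lt_of_le_of_lt Nat.and_le_left (hT i)) (hb _ (by norm_num)) h1 i hlt
  have h3 : bi M i = 1 := by unfold bi; rw [hi]; rfl
  rw [h3, one_mul, one_mul] at h2
  exact guard (hT i) h2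

theorem and_elim {a b : Bool} (h : and a b = true) : a = true ∧ b = true := by
  rwa [Bool.and_eq_true] at h

/-! ### Doubling -/

theorem dblT_eq {M : ℕ} (h : Sm M) {y : ℕ → ℕ} (hy : Bd y) :
    dblT M (pq y) = pq fun i => y i + y i * bi M i + bi M i * 393216 := by
  unfold dblT
  rw [nadd, nadd, nland, land_fm h hy.lt, cm_eq h, pk_add, pk_add]

theorem dblP_sound {M : ℕ} (h : Sm M) {y : ℕ → ℕ} (hy : Bd y) {k : ℕ → Bool} (hk : dblP M (pq y) k = true) :
    ∃ y', Bd y' ∧ vl y' = (fun i => if M.testBit i then 2 * vl y i else vl y i) ∧ k (pq y') = true := by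
  unfold dblP at hk
  rw [seqB_eq] at hk
  obtain ⟨h1, h2⟩ := and_elim hk
  rw [seqB_eq] at h2
  rw [dblT_eq h hy] at h1 h2
  have hT : ∀ i, y i + y i * bi M i + bi M i * 393216 < 2 ^ 20 := by
    intro i
    have := hy i
    rcases bi_cases M i with ⟨-, h2⟩ | ⟨-, h2⟩ <;> rw [h2] <;> norm_num <;> omega
  have hG := chkG_spec h hT h1
  have e : Nat.sub (pq fun i => y i + y i * bi M i + bi M i * 393216) (cm M 524288) =
      pq fun i => y i + y i * bi M i + bi M i * 393216 - bi M i * 524288 := by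
    rw [nsub, cm_eq h, pk_sub]
    intro i _
    rcases bi_cases M i with ⟨h3, h4⟩ | ⟨h3, h4⟩
    · have := (hG i h3).1
      rw [h4] at this ⊢
      omega
    · rw [h4]
      omega
  rw [e] at h2
  refine ⟨_, ?_, ?_, h2⟩
  · intro i
    show y i + y i * bi M i + bi M i * 393216 - bi M i * 524288 ≤ 262144
    have := hy i
    rcases bi_cases M i with ⟨h3, h4⟩ | ⟨h3, h4⟩
    · have := (hG i h3).2
      rw [h4] at this ⊢
      omega
    · rw [h4]
      omega
  · funext i
    by_cases hi : i < 6144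
    · rw [vl_lt hi, vl_lt hi]
      beta_reduce
      rcases bi_cases M i with ⟨h3, h4⟩ | ⟨h3, h4⟩
      · have := (hG i h3).1
        rw [h4] at this
        rw [h3, h4, if_pos rfl]
        have e : y i + y i * 1 + 1 * 393216 - 1 * 524288 + 131072 = 2 * y i := by omega
        have e2 : ((y i + y i * 1 + 1 * 393216 - 1 * 524288 : ℕ) : ℚ) + 131072 = 2 * (y i : ℚ) := by exact_mod_cast e
        linarith
      · rw [h3, h4]
        have e : y i + y i * 0 + 0 * 393216 - 0 * 524288 = y i := by omega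
        rw [e]
        simp
    · rw [vl_ge hi, vl_ge hi]
      simp

/-! ### Halving -/

theorem halfP_sound {y : ℕ → ℕ} (hy : Bd y) {k : ℕ → Bool} (hk : halfP (pq y) k = true) :
    ∃ y', Bd y' ∧ vl y' = (fun i => (2 : ℚ)⁻¹ * vl y i) ∧ k (pq y') = true := by
  unfold halfP at hk
  obtain ⟨h1, h2⟩ := and_elim hk
  rw [seqB_eq] at h2
  have h3 : pq y &&& allO = 0 := by
    rw [nland] at h1
    exact Nat.eq_of_beq_eq_true h1
  have hO : allO = pq fun _ => 1 := ones_eq (by norm_num) _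
  rw [hO, pk_land (by norm_num) (fun i _ => hy.lt i) (fun i _ => by norm_num)] at h3
  have h0 : (0 : ℕ) = pq fun _ => 0 := pk_zero.symm
  rw [h0] at h3
  have hev : ∀ i < 6144, y i % 2 = 0 := by
    intro i hi
    have := pk_inj (fun i hi => lt_of_le_of_lt Nat.and_le_left (hy.lt i)) (fun i _ => by norm_num) h3 i hi
    rwa [Nat.and_one_is_mod] at this
  have e : Nat.shiftRight (Nat.add (pq y) (Nat.mul allO 131072)) 1 = pq fun i => (y i + 131072) / 2 := by
    rw [nshr, nadd, nmul, hO, pk_mul, pk_add, Nat.shiftRight_eq_div_pow, pow_one]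
    have : (pk 20 6144 fun i => y i + 1 * 131072) = (pq fun i => (y i + 131072) / 2) * 2 := by
      rw [pk_mul]
      apply pk_congr
      intro i hi
      have := hev i hi
      omega
    rw [this, Nat.mul_div_cancel _ (by norm_num)]
  rw [e] at h2
  refine ⟨_, ?_, ?_, h2⟩
  · intro i
    show (y i + 131072) / 2 ≤ 262144
    have := hy i
    omega
  · funext i
    by_cases hi : i < 6144
    · rw [vl_lt hi, vl_lt hi]
      beta_reduce
      have e : 2 * ((y i + 131072) / 2) = y i + 131072 := by have := hev i hi; omega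
      have e2 : 2 * (((y i + 131072) / 2 : ℕ) : ℚ) = (y i : ℚ) + 131072 := by exact_mod_cast e
      linarith
    · rw [vl_ge hi, vl_ge hi]
      simp

end Cfsg.Agent.H913.U33.PK
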