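import Cfsg.Agent.H913.U33.PBf

/-!
# S5525: equality of words by the packed engine (helper913)

`chkP v w = true` (by `decide +kernel`) implies `g v = g w`; about 1 ms for a letter (`xi`: 4 ms).
-/

set_option autoImplicit false
set_option linter.unusedSectionVars false
set_option linter.unusedVariables false

namespace Cfsg.Agent.H913.U33.PK

open Cfsg.Agent.Lib.PermNet Cfsg.Agent.Monster Cfsg.Agent.Monster.VecEngine Cfsg.Agent.Monster.VecSpace
open Cfsg.Agent.BabyM.Conc

attribute [local irreducible] pk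

theorem netP_sound (L : Net) (hL : L.ok 6144 = true) {y : ℕ → ℕ} (hy : Bd y) {k : ℕ → Bool}
    (hk : netP L (pq y) k = true) :
    ∃ y', Bd y' ∧ vl y' = (fun i => vl y (L.perm i)) ∧ k (pq y') = true := by
  induction L generalizing y with
  | nil => exact ⟨y, hy, rfl, hk⟩
  | cons M d L ih =>
    obtain ⟨h1, h2, h3⟩ := Net.ok_cons hL
    have hk' : seqB (stage (fm M) (Nat.mul 20 d) (pq y)) (fun x => netP L x k) = true := hk
    rw [seqB_eq, nmul, stage_pk h1 h2 hy] at hk'
    obtain ⟨y', hy', hv, hk2⟩ := ih h3 (y := fun i => y (tau M d i)) (fun i => hy _) hk'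
    refine ⟨y', hy', ?_, hk2⟩
    rw [hv]
    funext i
    rw [stage_vl h1 h2, Net.perm_cons, Equiv.Perm.mul_apply, stagePerm_apply h1]

/-- Well-formed programs on 6144 lanes. -/
noncomputable def okn (P : Prog) : Bool :=
  Prog.rec (motive := fun _ => Bool) true
    (fun L _ ih => and (L.ok 6144) ih)
    (fun M _ ih => and (Nat.beq (Nat.shiftRight M 6144) 0) ih)
    (fun M _ ih => and (Nat.beq (Nat.shiftRight M 6144) 0) ih)
    (fun _ ih => ih)
    (fun M d _ ih => and (Net.ok 6144 (.cons M d .nil)) ih) P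

theorem runP_sound (P : Prog) (hP : okn P = true) {y : ℕ → ℕ} (hy : Bd y) {k : ℕ → Bool}
    (hk : runP P (pq y) k = true) :
    ∃ y', Bd y' ∧ vl y' = sem ℚ P (vl y) ∧ k (pq y') = true := by
  induction P generalizing y with
  | nil => exact ⟨y, hy, rfl, hk⟩
  | perm L P ih =>
    have hP' : and (L.ok 6144) (okn P) = true := hP
    obtain ⟨a1, a2⟩ := and_elim hP'
    have hk' : netP L (pq y) (fun x => runP P x k) = true := hk
    obtain ⟨y', hy', hv, hk2⟩ := netP_sound L a1 hy hk'
    obtain ⟨y2, hy2, hv2, hk3⟩ := ih a2 hy' hk2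
    refine ⟨y2, hy2, ?_, hk3⟩
    rw [hv2, hv]
    rfl
  | neg M P ih =>
    have hP' : and (Nat.beq (Nat.shiftRight M 6144) 0) (okn P) = true := hP
    obtain ⟨a1, a2⟩ := and_elim hP'
    have hS : Sm M := Nat.eq_of_beq_eq_true a1
    have hk' : seqB (negP M (pq y)) (fun x => runP P x k) = true := hk
    rw [seqB_eq, negP_eq hS hy] at hk'
    obtain ⟨y2, hy2, hv2, hk3⟩ := ih a2 (neg_bd hy) hk'
    refine ⟨y2, hy2, ?_, hk3⟩
    rw [hv2]
    show sem ℚ P _ = sem ℚ P (lneg ℚ M (vl y))
    congr 1
    funext i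
    exact neg_vl hS hy i
  | dbl M P ih =>
    have hP' : and (Nat.beq (Nat.shiftRight M 6144) 0) (okn P) = true := hP
    obtain ⟨a1, a2⟩ := and_elim hP'
    have hS : Sm M := Nat.eq_of_beq_eq_true a1
    have hk' : dblP M (pq y) (fun x => runP P x k) = true := hk
    obtain ⟨y', hy', hv, hk2⟩ := dblP_sound hS hy hk'
    obtain ⟨y2, hy2, hv2, hk3⟩ := ih a2 hy' hk2
    refine ⟨y2, hy2, ?_, hk3⟩
    rw [hv2, hv]
    rfl
  | half P ih =>
    have hk' : halfP (pq y) (fun x => runP P x k) = true := hk
    obtain ⟨y', hy', hv, hk2⟩ := halfP_sound hy hk'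
    obtain ⟨y2, hy2, hv2, hk3⟩ := ih hP hy' hk2
    refine ⟨y2, hy2, ?_, hk3⟩
    rw [hv2, hv]
    rfl
  | bfly M d P ih =>
    have hP' : and (Net.ok 6144 (.cons M d .nil)) (okn P) = true := hP
    obtain ⟨a1, a2⟩ := and_elim hP'
    obtain ⟨h1, h2, -⟩ := Net.ok_cons a1
    have hk' : bfP M d (pq y) (fun x => runP P x k) = true := hk
    obtain ⟨y', hy', hv, hk2⟩ := bfP_sound h1 h2 hy hk'
    obtain ⟨y2, hy2, hv2, hk3⟩ := ih a2 hy' hk2
    refine ⟨y2, hy2, ?_, hk3⟩
    rw [hv2, hv]
    rfl

theorem okn_z : okn (Ltr.prog .z) = true := by decide +kernel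

theorem okn_X0 : okn (Ltr.prog .X0) = true := by decide +kernel

theorem okn_X1 : okn (Ltr.prog .X1) = true := by decide +kernel

theorem okn_X2 : okn (Ltr.prog .X2) = true := by decide +kernel

theorem okn_X3 : okn (Ltr.prog .X3) = true := by decide +kernel

theorem okn_X4 : okn (Ltr.prog .X4) = true := by decide +kernel

theorem okn_X5 : okn (Ltr.prog .X5) = true := by decide +kernel

theorem okn_X6 : okn (Ltr.prog .X6) = true := by decide +kernel

theorem okn_X7 : okn (Ltr.prog .X7) = true := by decide +kernel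

theorem okn_X8 : okn (Ltr.prog .X8) = true := by decide +kernel

theorem okn_X9 : okn (Ltr.prog .X9) = true := by decide +kernel

theorem okn_X10 : okn (Ltr.prog .X10) = true := by decide +kernel

theorem okn_Z0 : okn (Ltr.prog .Z0) = true := by decide +kernel

theorem okn_Z1 : okn (Ltr.prog .Z1) = true := by decide +kernel

theorem okn_Z2 : okn (Ltr.prog .Z2) = true := by decide +kernel

theorem okn_Z3 : okn (Ltr.prog .Z3) = true := by decide +kernel

theorem okn_Z4 : okn (Ltr.prog .Z4) = true := by decide +kernel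

theorem okn_Z5 : okn (Ltr.prog .Z5) = true := by decide +kernel

theorem okn_Z6 : okn (Ltr.prog .Z6) = true := by decide +kernel

theorem okn_Z7 : okn (Ltr.prog .Z7) = true := by decide +kernel

theorem okn_Z8 : okn (Ltr.prog .Z8) = true := by decide +kernel

theorem okn_Z9 : okn (Ltr.prog .Z9) = true := by decide +kernel

theorem okn_Z10 : okn (Ltr.prog .Z10) = true := by decide +kernel

theorem okn_y1 : okn (Ltr.prog .y1) = true := by decide +kernel

theorem okn_y2 : okn (Ltr.prog .y2) = true := by decide +kernel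

theorem okn_y3 : okn (Ltr.prog .y3) = true := by decide +kernel

theorem okn_y4 : okn (Ltr.prog .y4) = true := by decide +kernel

theorem okn_y5 : okn (Ltr.prog .y5) = true := by decide +kernel

theorem okn_y6 : okn (Ltr.prog .y6) = true := by decide +kernel

theorem okn_y7 : okn (Ltr.prog .y7) = true := by decide +kernel

theorem okn_y8 : okn (Ltr.prog .y8) = true := by decide +kernel

theorem okn_y9 : okn (Ltr.prog .y9) = true := by decide +kernel

theorem okn_y10 : okn (Ltr.prog .y10) = true := by decide +kernel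

theorem okn_p : okn (Ltr.prog .p) = true := by decide +kernel

theorem okn_h : okn (Ltr.prog .h) = true := by decide +kernel

theorem okn_xi : okn (Ltr.prog .xi) = true := by decide +kernel

theorem okn_p2 : okn (Ltr.prog .p2) = true := by decide +kernel

theorem okn_p3 : okn (Ltr.prog .p3) = true := by decide +kernel

theorem okn_p4 : okn (Ltr.prog .p4) = true := by decide +kernel

theorem okn_p5 : okn (Ltr.prog .p5) = true := by decide +kernel

theorem okn_p6 : okn (Ltr.prog .p6) = true := by decide +kernel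

theorem okn_p7 : okn (Ltr.prog .p7) = true := by decide +kernel

theorem okn_p8 : okn (Ltr.prog .p8) = true := by decide +kernel

theorem okn_p9 : okn (Ltr.prog .p9) = true := by decide +kernel

theorem okn_p10 : okn (Ltr.prog .p10) = true := by decide +kernel

theorem okn_hi : okn (Ltr.prog .hi) = true := by decide +kernel

theorem okn_xii : okn (Ltr.prog .xii) = true := by decide +kernel

theorem okn_tau : okn (Ltr.prog .tau) = true := by decide +kernel

theorem okn_taui : okn (Ltr.prog .taui) = true := by decide +kernel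

theorem okn_all (l : Ltr) : okn l.prog = true := by
  cases l
  · exact okn_z
  · exact okn_X0
  · exact okn_X1
  · exact okn_X2
  · exact okn_X3
  · exact okn_X4
  · exact okn_X5
  · exact okn_X6
  · exact okn_X7
  · exact okn_X8
  · exact okn_X9
  · exact okn_X10
  · exact okn_Z0
  · exact okn_Z1
  · exact okn_Z2
  · exact okn_Z3
  · exact okn_Z4
  · exact okn_Z5
  · exact okn_Z6
  · exact okn_Z7
  · exact okn_Z8
  · exact okn_Z9
  · exact okn_Z10
  · exact okn_y1
  · exact okn_y2
  · exact okn_y3
  · exact okn_y4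
  · exact okn_y5
  · exact okn_y6
  · exact okn_y7
  · exact okn_y8
  · exact okn_y9
  · exact okn_y10
  · exact okn_p
  · exact okn_h
  · exact okn_xi
  · exact okn_p2
  · exact okn_p3
  · exact okn_p4
  · exact okn_p5
  · exact okn_p6
  · exact okn_p7
  · exact okn_p8
  · exact okn_p9
  · exact okn_p10
  · exact okn_hi
  · exact okn_xii
  · exact okn_tau
  · exact okn_taui


theorem runW_sound (v : List Ltr) {y : ℕ → ℕ} (hy : Bd y) {k : ℕ → Bool} (hk : runW v (pq y) k = true) :
    ∃ y', Bd y' ∧ vl y' = semL ℚ (v.map Ltr.prog) (vl y) ∧ k (pq y') = true := by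
  induction v generalizing y with
  | nil => exact ⟨y, hy, rfl, hk⟩
  | cons l v ih =>
    have hk' : runP l.prog (pq y) (fun x => runW v x k) = true := hk
    obtain ⟨y', hy', hv, hk2⟩ := runP_sound l.prog (okn_all l) hy hk'
    obtain ⟨y2, hy2, hv2, hk3⟩ := ih hy' hk2
    refine ⟨y2, hy2, ?_, hk3⟩
    rw [hv2, hv]
    rfl


end Cfsg.Agent.H913.U33.PK
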