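import Cfsg.Agent.Monster.VecEngine

/-!
# S5525: vectors over `F₃` in one natural number (helper913)

The lane `i < 8192` of `N` is `bit i - bit (i + 8192)`; both bits are never set (`Ok`). Signs, doublings and halvings are
swaps of the two halves, so a permutation letter costs six operations on 16384-bit numbers per stage.
-/

set_option autoImplicit false
set_option linter.unusedSectionVars false
set_option linter.unusedVariables false

namespace Cfsg.Agent.H913.U33.T3

open Cfsg.Agent.Lib.PermNet Cfsg.Agent.Monster Cfsg.Agent.Monster.VecEngine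

/-- The number of lanes. -/
abbrev S : ℕ := 8192

/-- The lane `i`. -/
def lv (N i : ℕ) : ZMod 3 := (if N.testBit i then 1 else 0) - (if N.testBit (i + S) then 1 else 0)

/-- The vector. -/
def v3 (N i : ℕ) : ZMod 3 := if i < S then lv N i else 0

/-- Canonical numbers. -/
structure Ok (N : ℕ) : Prop where
  can : ∀ i < S, ¬ (N.testBit i = true ∧ N.testBit (i + S) = true)
  bd : ∀ i, 2 * S ≤ i → N.testBit i = false

theorem v3_of_lt {N i : ℕ} (h : i < S) : v3 N i = lv N i := if_pos h

theorem v3_of_le {N i : ℕ} (h : S ≤ i) : v3 N i = 0 := if_neg (by omega)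

/-- Both halves. -/
noncomputable def rep (M : ℕ) : ℕ := Nat.lor M (Nat.shiftLeft M 8192)

theorem testBit_rep_lo {M i : ℕ} (h : i < S) : (rep M).testBit i = M.testBit i := by
  show (M ||| M <<< 8192).testBit i = _
  rw [Nat.testBit_or, Nat.testBit_shiftLeft]
  have : ¬ 8192 ≤ i := by have := h; unfold S at this; omega
  simp [this]

theorem testBit_rep_hi {M i : ℕ} (hM : M >>> S = 0) : (rep M).testBit (i + S) = M.testBit i := by
  show (M ||| M <<< 8192).testBit (i + S) = _
  rw [Nat.testBit_or, Nat.testBit_shiftLeft]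
  have h1 : M.testBit (i + S) = false := by
    have := congrArg (fun x => Nat.testBit x i) hM
    simp only [Nat.testBit_shiftRight, Nat.zero_testBit] at this
    rwa [Nat.add_comm] at this
  rw [h1]
  have h2 : 8192 ≤ i + S := by unfold S; omega
  have h3 : i + S - 8192 = i := by unfold S; omega
  simp [h3]

theorem bit_ge {M i n : ℕ} (h : M >>> n = 0) (hi : n ≤ i) : M.testBit i = false := by
  have := congrArg (fun x => Nat.testBit x (i - n)) h
  simp only [Nat.testBit_shiftRight, Nat.zero_testBit] at this
  rwa [Nat.add_sub_cancel' hi] at this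

theorem bit_rep_ge {M i : ℕ} (hM : M >>> S = 0) (hi : 2 * S ≤ i) : (rep M).testBit i = false := by
  have h : i = (i - S) + S := by omega
  rw [h, testBit_rep_hi hM]
  exact bit_ge hM (by omega)

/-! ### A stage on both halves -/

section stage

variable {M d : ℕ} (h1 : M &&& (M >>> d) = 0) (h2 : M >>> (S - d) = 0)

include h2 in
theorem shift_S : M >>> S = 0 := by
  apply Nat.eq_of_testBit_eq
  intro i
  rw [Nat.testBit_shiftRight, Nat.zero_testBit]
  exact bit_ge h2 (by omega)

include h1 h2

theorem rep_and : rep M &&& (rep M >>> d) = 0 := by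
  have hS := shift_S h2
  apply Nat.eq_of_testBit_eq
  intro i
  rw [Nat.testBit_and, Nat.testBit_shiftRight, Nat.zero_testBit, Bool.and_eq_false_iff]
  by_cases hi : i < S
  · rw [testBit_rep_lo hi]
    cases hb : M.testBit i with
    | false => exact Or.inl rfl
    | true =>
      right
      have h3 : i + d < S := by
        by_contra h4
        rw [bit_ge h2 (by omega)] at hb
        exact absurd hb (by simp)
      rw [Nat.add_comm, testBit_rep_lo h3]
      exact testBit_and_shift h1 i hb
  · have e : i = (i - S) + S := by omega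
    rw [e, testBit_rep_hi hS]
    cases hb : M.testBit (i - S) with
    | false => exact Or.inl rfl
    | true =>
      right
      rw [show d + (i - S + S) = (i - S + d) + S by omega, testBit_rep_hi hS]
      exact testBit_and_shift h1 _ hb

theorem tau_rep_lo {i : ℕ} (hi : i < S) : tau (rep M) d i = tau M d i := by
  unfold tau
  rw [testBit_rep_lo hi]
  by_cases h3 : d ≤ i
  · rw [testBit_rep_lo (by omega : i - d < S)]
  · simp [h3]

theorem tau_rep_hi {i : ℕ} (hi : i < S) : tau (rep M) d (i + S) = tau M d i + S := by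
  have hS := shift_S h2
  unfold tau
  rw [testBit_rep_hi hS]
  by_cases hb : M.testBit i = true
  · rw [if_pos hb, if_pos hb]; omega
  · rw [if_neg hb, if_neg hb]
    by_cases hd : d ≤ i
    · have e : i + S - d = (i - d) + S := by omega
      rw [e, testBit_rep_hi hS]
      by_cases hc : M.testBit (i - d) = true
      · rw [if_pos ⟨by omega, hc⟩, if_pos ⟨hd, hc⟩]
      · rw [if_neg (fun h => hc h.2), if_neg (fun h => hc h.2)]
    · rw [if_neg (show ¬ (d ≤ i ∧ M.testBit (i - d) = true) from fun h => hd h.1), if_neg]
      rintro ⟨hd2, hc⟩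
      rw [testBit_rep_lo (by omega : i + S - d < S), bit_ge h2 (by omega)] at hc
      exact absurd hc (by simp)

theorem tau_lt_S {i : ℕ} (hi : i < S) : tau M d i < S := tau_lt h2 hi

theorem tau_rep_ge {i : ℕ} (hi : 2 * S ≤ i) : 2 * S ≤ tau (rep M) d i := by
  have hS := shift_S h2
  unfold tau
  rw [bit_rep_ge hS hi, if_neg (by simp)]
  by_cases h3 : d ≤ i ∧ (rep M).testBit (i - d) = true
  · exfalso
    obtain ⟨h4, h5⟩ := h3
    by_cases h6 : S ≤ i - d
    · have e : i - d = (i - d - S) + S := by omega
      rw [e, testBit_rep_hi hS, bit_ge h2 (by omega)] at h5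
      exact absurd h5 (by simp)
    · rw [testBit_rep_lo (by omega), bit_ge h2 (by omega)] at h5
      exact absurd h5 (by simp)
  · rw [if_neg h3]
    exact hi

theorem stage_ok {N : ℕ} (hN : Ok N) : Ok (stage (rep M) d N) := by
  have h3 := rep_and h1 h2
  constructor
  · intro i hi
    rw [testBit_stage h3, testBit_stage h3, stagePerm_apply h3, stagePerm_apply h3, tau_rep_lo h1 h2 hi,
      tau_rep_hi h1 h2 hi]
    exact hN.can _ (tau_lt_S h1 h2 hi)
  · intro i hi
    rw [testBit_stage h3, stagePerm_apply h3]
    exact hN.bd _ (tau_rep_ge h1 h2 hi)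

theorem stage_v3 (N i : ℕ) : v3 (stage (rep M) d N) i = v3 N (tau M d i) := by
  have h3 := rep_and h1 h2
  by_cases hi : i < S
  · rw [v3_of_lt hi, v3_of_lt (tau_lt_S h1 h2 hi)]
    unfold lv
    rw [testBit_stage h3, testBit_stage h3, stagePerm_apply h3, stagePerm_apply h3, tau_rep_lo h1 h2 hi,
      tau_rep_hi h1 h2 hi]
  · rw [v3_of_le (by omega), tau_eq_of_le h2 (by omega), v3_of_le (by omega)]

end stage

/-! ### Signs -/

section sign

variable {M : ℕ} (h : M >>> S = 0)

include h

theorem sg_and : M &&& (M >>> S) = 0 := by rw [h, Nat.and_zero]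

theorem tau_sg_lo {i : ℕ} (hi : i < S) : tau M S i = if M.testBit i then i + S else i := by
  unfold tau
  by_cases hb : M.testBit i = true
  · rw [if_pos hb, if_pos hb]
  · rw [if_neg hb, if_neg hb, if_neg]
    rintro ⟨h1, -⟩
    omega

theorem tau_sg_hi {i : ℕ} (hi : i < S) : tau M S (i + S) = if M.testBit i then i else i + S := by
  unfold tau
  rw [bit_ge h (by omega : S ≤ i + S), if_neg (by simp), Nat.add_sub_cancel]
  by_cases hb : M.testBit i = true
  · rw [if_pos ⟨by omega, hb⟩, if_pos hb]
  · rw [if_neg (fun h => hb h.2), if_neg hb]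

theorem sg_ok {N : ℕ} (hN : Ok N) : Ok (stage M S N) := by
  have h3 := sg_and h
  constructor
  · intro i hi
    rw [testBit_stage h3, testBit_stage h3, stagePerm_apply h3, stagePerm_apply h3, tau_sg_lo h hi, tau_sg_hi h hi]
    by_cases hb : M.testBit i = true
    · rw [if_pos hb, if_pos hb]
      exact fun hc => hN.can i hi ⟨hc.2, hc.1⟩
    · rw [if_neg hb, if_neg hb]
      exact hN.can i hi
  · intro i hi
    rw [testBit_stage h3, stagePerm_apply h3]
    unfold tau
    rw [bit_ge h (by omega : S ≤ i), if_neg (by simp)]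
    by_cases hc : S ≤ i ∧ M.testBit (i - S) = true
    · exfalso
      rw [bit_ge h (by omega : S ≤ i - S)] at hc
      exact absurd hc.2 (by simp)
    · rw [if_neg hc]
      exact hN.bd i hi

theorem sg_v3 (N i : ℕ) : v3 (stage M S N) i = if M.testBit i then - v3 N i else v3 N i := by
  have h3 := sg_and h
  by_cases hi : i < S
  · rw [v3_of_lt hi, v3_of_lt hi]
    unfold lv
    rw [testBit_stage h3, testBit_stage h3, stagePerm_apply h3, stagePerm_apply h3, tau_sg_lo h hi, tau_sg_hi h hi]
    by_cases hb : M.testBit i = true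
    · rw [if_pos hb, if_pos hb, if_pos hb, neg_sub]
    · rw [if_neg hb, if_neg hb, if_neg hb]
  · rw [v3_of_le (by omega), v3_of_le (by omega), neg_zero, ite_self]

end sign

end Cfsg.Agent.H913.U33.T3
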