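import Cfsg.Agent.H913.U33.T3

/-!
# S5525: butterflies over `F₃` in one natural number (helper913)
-/

set_option autoImplicit false
set_option linter.unusedSectionVars false
set_option linter.unusedVariables false

namespace Cfsg.Agent.H913.U33.T3

open Cfsg.Agent.Lib.PermNet Cfsg.Agent.Monster Cfsg.Agent.Monster.VecEngine

/-- `2 ^ 8192 - 1` -/
def lo : ℕ := 0xffffffffffffffffffffffffffffffffffffffffffffffffffffffffffffffffffffffffffffffffffffffffffffffffffffffffffffffffffffffffffffffffffffffffffffffffffffffffffffffffffffffffffffffffffffffffffffffffffffffffffffffffffffffffffffffffffffffffffffffffffffffffffffffffffffffffffffffffffffffffffffffffffffffffffffffffffffffffffffffffffffffffffffffffffffffffffffffffffffffffffffffffffffffffffffffffffffffffffffffffffffffffffffffffffffffffffffffffffffffffffffffffffffffffffffffffffffffffffffffffffffffffffffffffffffffffffffffffffffffffffffffffffffffffffffffffffffffffffffffffffffffffffffffffffffffffffffffffffffffffffffffffffffffffffffffffffffffffffffffffffffffffffffffffffffffffffffffffffffffff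ffffffffffffffffffffffffffffffffffffffffffffffffffffffffffffffffffffffffffffffffffffffffffffffffffffffffffffffffffffffffffffffffffffffffffffffffffffffffffffffffffffffffffffffffffffffffffffffffffffffffffffffffffffffffffffffffffffffffffffffffffffffffffffffffffffffffffffffffffffffffffffffffffffffffffffffffffffffffffffffffffffffffffffffffffffffffffffffffffffffffffffffffffffffffffffffffffffffffffffffffffffffffffffffffffffffffffffffffffffffffffffffffffffffffffffffffffffffffffffffffffffffffffffffffffffffffffffffffffffffffffffffffffffffffffffffffffffffffffffffffffffffffffffffffffffffffffffffffffffffffffffffffffffffffffffffffffffffffffffffffffffffffffffffffffffffffffffffffffffffffffffffffffffffffffffffffffffffffffffffffffffffffffffffffffffffffffffffffffffffffffffffffffffffffffffffffffffffffffffffffffffffffffffffffffffffffffffffffffffffffffffffffffffffffffffffffffffffffffffffffffffffffffffffffffffffffffffffffffffffffffffffffffffffffffffffffffffffffffffffffffffffffffffffffffffffffffffffffffffffffffffffffffffffffffffffffffffffffffffffffffffffffffffffffffffffffffffffffffffffffffffffffffffffffffffffffffffffffffffffffffffffffffffffffffffffffffffffffffffffffffffffffffffffffffffffffffffffffffffffffffffffffffffffffffffffffffffffffffffffffffffffffffffffffffffffffffffffffffffffffffffffffffffffffffffffffffffffffffffffffffffffffffffffffffffffffffffffffffffffffffffffff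

/-- `2 ^ 16384 - 1` -/
def full : ℕ := 0xfffffffffffffffffffffffffffffffffffffffffffffffffffffffffffffffffffffffffffffffffffffffffffffffffffffffffffffffffffffffffffffffffffffffffffffffffffffffffffffffffffffffffffffffffffffffffffffffffffffffffffffffffffffffffffffffffffffffffffffffffffffffffffffffffffffffffffffffffffffffffffffffffffffffffffffffffffffffffffffffffffffffffffffffffffffffffffffffffffffffffffffffffffffffffffffffffffffffffffffffffffffffffffffffffffffffffffffffffffffffffffffffffffffffffffffffffffffffffffffffffffffffffffffffffffffffffffffffffffffffffffffffffffffffffffffffffffffffffffffffffffffffffffffffffffffffffffffffffffffffffffffffffffffffffffffffffffffffffffffffffffffffffffffffffffffffffffffffffffffffffffffffffffffffffffffffffffffffffffffffffffffffffffffffffffffffffffffffffffffffffffffffffffffffffffffffffffffffffffffffffffffffffffffffffffffffffffffffffffffffffffffffffffffffffffffffffffffffffffffffffffffffffffffffffffffffffffffffffffffffffffffffffffffffffffffffffffffffffffffffffffffffffffffffffffffffffffffffffffffffffff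ffffffffffffffffffffffffffffffffffffffffffffffffffffffffffffffffffffffffffffffffffffffffffffffffffffffffffffffffffffffffffffffffffffffffffffffffffffffffffffffffffffffffffffffffffffffffffffffffffffffffffffffffffffffffffffffffffffffffffffffffffffffffffffffffffffffffffffffffffffffffffffffffffffffffffffffffffffffffffffffffffffffffffffffffffffffffffffffffffffffffffffffffffffffffffffffffffffffffffffffffffffffffffffffffffffffffffffffffffffffffffffffffffffffffffffffffffffffffffffffffffffffffffffffffffffffffffffffffffffffffffffffffffffffffffffffffffffffffffffffffffffffffffffffffffffffffffffffffffffffffffffffffffffffffffffffffffffffffffffffffffffffffffffffffffffffffffffffffffffffffffffffffffffffffffffffffffffffffffffffffffffffffffffffffffffffffffffffffffffffffffffffffffffffffffffffffffffffffffffffffffffffffffffffffffffffffffffffffffffffffffffffffffffffffffffffffffffffffffffffffffffffffffffffffffffffffffffffffffffffffffffffffffffffffffffffffffffffffffffffffffffffffffffffffffffffffffffffffffffffffffffffffffffffffffffffffffffffffffffffffffffff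ffffffffffffffffffffffffffffffffffffffffffffffffffffffffffffffffffffffffffffffffffffffffffffffffffffffffffffffffffffffffffffffffffffffffffffffffffffffffffffffffffffffffffffffffffffffffffffffffffffffffffffffffffffffffffffffffffffffffffffffffffffffffffffffffffffffffffffffffffffffffffffffffffffffffffffffffffffffffffffffffffffffffffffffffffffffffffffffffffffffffffffffffffffffffffffffffffffffffffffffffffffffffffffffffffffffffffffffffffffffffffffffffffffffffffffffffffffffffffffffffffffffffffffffffffffffffffffffffffffffffffffffffffffffffffffffffffffffffffffffffffffffffffffffffffffffffffffffffffffffffffffffffffffffffffffffffffffffffffffffffffffffffffffffffffffffffffffffffffffffffffffffffffffffffffffffffffffffffffffffffffffffffffffffffffffffffffffffffffffffffffffffffffffffffffffffffffffffffffffffffffffffffffffffffffffffffffffffffffffffffffffffffffffffffffffffffffffffffffffffffffffffffffffffffffffffffffffffffffffffffffffffffffffffffffffffffffffffffffffffffffffffffffffffffffffffffffffffffffffffffffffffffffffffffffffffffffffffffffffffffffffff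fffffffffffffffffffffffffffffffffffffffffffffffffffffffffffffffffffffffffffffffffffffffffffffffffffffffffffffffffffffffffffffffffffffffffffffffffffffffffffffffffffffffffffffffffffffffffffffffffffffffffffffffffffffffffffffffffffffffffffffffffffffffffffffffffffffffffffffffffffffffffffffffffffffffffffffffffffffffffffffffffffffffffffffffffffffffffffffffffffffffffffffffffffffffffffffffffffffffffffffffffffffffffffffffffffffffffffffffffffffffffffffffffffffffffffffffffffffffffffffffffffffffffffffffffffffffffffffffffffffffffffffffffffffffffffffffffffffffffffffffffffffffffffffffffffffffffffffffffffffffffffffffffffffffffffffffffffffffffffffffffffffffffffffffffffffffffffffffffffffffffffffffffffffffffffffffffffffffffffffffffffffffffffffffffffffffffffffffffffffffffffffffffffffffffffffffffffffffffffffffffffffffffffffffffffffffffffffffffffffffffffffffffffffffffffffffffffffffffffffffffffffffffffffffffffffffffffffffffffffffffffffffffffffffffffffffffffffffffffffffffffffffffffffffffffffffffffffffffffffffff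

theorem lo_eq : lo = 2 ^ S - 1 := by decide +kernel

theorem full_eq : full = 2 ^ (2 * S) - 1 := by decide +kernel

theorem testBit_lo (i : ℕ) : lo.testBit i = decide (i < S) := by rw [lo_eq, Nat.testBit_two_pow_sub_one]

theorem testBit_full (i : ℕ) : full.testBit i = decide (i < 2 * S) := by rw [full_eq, Nat.testBit_two_pow_sub_one]

/-- Swap the halves. -/
noncomputable def swap (Y : ℕ) : ℕ := Nat.lor (Nat.shiftRight Y 8192) (Nat.shiftLeft (Nat.land Y lo) 8192)

theorem swap_lo (Y : ℕ) {i : ℕ} (hi : i < S) : (swap Y).testBit i = Y.testBit (i + S) := by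
  show ((Y >>> 8192) ||| ((Y &&& lo) <<< 8192)).testBit i = _
  rw [Nat.testBit_or, Nat.testBit_shiftRight, Nat.testBit_shiftLeft]
  have h : ¬ 8192 ≤ i := by have := hi; unfold S at this; omega
  simp only [h, decide_false, Bool.false_and, Bool.or_false]
  rw [Nat.add_comm]

theorem swap_hi {Y : ℕ} (hY : ∀ j, 2 * S ≤ j → Y.testBit j = false) {i : ℕ} (hi : i < S) :
    (swap Y).testBit (i + S) = Y.testBit i := by
  show ((Y >>> 8192) ||| ((Y &&& lo) <<< 8192)).testBit (i + S) = _
  rw [Nat.testBit_or, Nat.testBit_shiftRight, Nat.testBit_shiftLeft, Nat.testBit_and, testBit_lo]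
  have h1 : Y.testBit (8192 + (i + S)) = false := hY _ (by unfold S; omega)
  have h2 : 8192 ≤ i + S := by unfold S; omega
  have h3 : i + S - 8192 = i := by unfold S; omega
  rw [h1, h3]
  simp [h2, hi]

theorem swap_bd {Y : ℕ} (hY : ∀ j, 2 * S ≤ j → Y.testBit j = false) (i : ℕ) (hi : 2 * S ≤ i) :
    (swap Y).testBit i = false := by
  show ((Y >>> 8192) ||| ((Y &&& lo) <<< 8192)).testBit i = _
  rw [Nat.testBit_or, Nat.testBit_shiftRight, Nat.testBit_shiftLeft, Nat.testBit_and, testBit_lo]
  have h1 : Y.testBit (8192 + i) = false := hY _ (by omega)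
  have h2 : ¬ (i - 8192 < S) := by unfold S at hi ⊢; omega
  rw [h1]
  simp [h2]

/-- The mask of the other lanes. -/
noncomputable def cm (M d : ℕ) : ℕ := Nat.xor full (Nat.lor (rep M) (Nat.shiftLeft (rep M) d))

/-- The butterfly. -/
noncomputable def bf (R d C X : ℕ) : ℕ :=
  (fun a b => (fun U V => (fun T => Nat.lor (Nat.land X C) (Nat.lor (Nat.xor T V) (Nat.shiftLeft (Nat.xor T U) d)))
    (swap (Nat.xor U V))) (Nat.lor a b) (Nat.lor a (swap b))) (Nat.land X R) (Nat.land (Nat.shiftRight X d) R)

section bfly

variable {M d : ℕ} (h1 : M &&& (M >>> d) = 0) (h2 : M >>> (S - d) = 0) (N : ℕ)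

/-- `a` -/
noncomputable def fA (M N : ℕ) : ℕ := N &&& rep M
/-- `b` -/
noncomputable def fB (M d N : ℕ) : ℕ := (N >>> d) &&& rep M
/-- `U` -/
noncomputable def fU (M d N : ℕ) : ℕ := fA M N ||| fB M d N
/-- `V` -/
noncomputable def fV (M d N : ℕ) : ℕ := fA M N ||| swap (fB M d N)
/-- `T` -/
noncomputable def fT (M d N : ℕ) : ℕ := swap (fU M d N ^^^ fV M d N)

theorem bf_eq : bf (rep M) d (cm M d) N =
    (N &&& cm M d) ||| ((fT M d N ^^^ fV M d N) ||| ((fT M d N ^^^ fU M d N) <<< d)) := rfl

include h1 h2

theorem hS : M >>> S = 0 := shift_S h2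

theorem A_lo {i : ℕ} (hi : i < S) : (fA M N).testBit i = (N.testBit i && M.testBit i) := by
  rw [fA, Nat.testBit_and, testBit_rep_lo hi]

theorem A_hi {i : ℕ} : (fA M N).testBit (i + S) = (N.testBit (i + S) && M.testBit i) := by
  rw [fA, Nat.testBit_and, testBit_rep_hi (hS h1 h2)]

theorem A_bd (i : ℕ) (hi : 2 * S ≤ i) : (fA M N).testBit i = false := by
  rw [fA, Nat.testBit_and, bit_rep_ge (hS h1 h2) hi, Bool.and_false]

theorem B_lo {i : ℕ} (hi : i < S) : (fB M d N).testBit i = (N.testBit (i + d) && M.testBit i) := by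
  rw [fB, Nat.testBit_and, testBit_rep_lo hi, Nat.testBit_shiftRight, Nat.add_comm]

theorem B_hi {i : ℕ} : (fB M d N).testBit (i + S) = (N.testBit (i + d + S) && M.testBit i) := by
  rw [fB, Nat.testBit_and, testBit_rep_hi (hS h1 h2), Nat.testBit_shiftRight, Nat.add_comm d, Nat.add_right_comm]

theorem B_bd (i : ℕ) (hi : 2 * S ≤ i) : (fB M d N).testBit i = false := by
  rw [fB, Nat.testBit_and, bit_rep_ge (hS h1 h2) hi, Bool.and_false]

theorem U_lo {i : ℕ} (hi : i < S) :
    (fU M d N).testBit i = ((N.testBit i && M.testBit i) || (N.testBit (i + d) && M.testBit i)) := by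
  rw [fU, Nat.testBit_or, A_lo h1 h2 N hi, B_lo h1 h2 N hi]

theorem U_hi {i : ℕ} :
    (fU M d N).testBit (i + S) = ((N.testBit (i + S) && M.testBit i) || (N.testBit (i + d + S) && M.testBit i)) := by
  rw [fU, Nat.testBit_or, A_hi h1 h2 N, B_hi h1 h2 N]

theorem U_bd (i : ℕ) (hi : 2 * S ≤ i) : (fU M d N).testBit i = false := by
  rw [fU, Nat.testBit_or, A_bd h1 h2 N i hi, B_bd h1 h2 N i hi, Bool.false_or]

theorem V_lo {i : ℕ} (hi : i < S) :
    (fV M d N).testBit i = ((N.testBit i && M.testBit i) || (N.testBit (i + d + S) && M.testBit i)) := by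
  rw [fV, Nat.testBit_or, A_lo h1 h2 N hi, swap_lo _ hi, B_hi h1 h2 N]

theorem V_hi {i : ℕ} (hi : i < S) :
    (fV M d N).testBit (i + S) = ((N.testBit (i + S) && M.testBit i) || (N.testBit (i + d) && M.testBit i)) := by
  rw [fV, Nat.testBit_or, A_hi h1 h2 N, swap_hi (B_bd h1 h2 N) hi, B_lo h1 h2 N hi]

theorem V_bd (i : ℕ) (hi : 2 * S ≤ i) : (fV M d N).testBit i = false := by
  rw [fV, Nat.testBit_or, A_bd h1 h2 N i hi, swap_bd (B_bd h1 h2 N) i hi, Bool.false_or]

theorem W_bd (i : ℕ) (hi : 2 * S ≤ i) : (fU M d N ^^^ fV M d N).testBit i = false := by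
  rw [Nat.testBit_xor, U_bd h1 h2 N i hi, V_bd h1 h2 N i hi, Bool.false_xor]

/-- the four bits -/
theorem s_lo {i : ℕ} (hi : i < S) : (fT M d N ^^^ fV M d N).testBit i =
    (M.testBit i && (((N.testBit (i + S) || N.testBit (i + d + S)) ^^ (N.testBit (i + S) || N.testBit (i + d))) ^^
      (N.testBit i || N.testBit (i + d + S)))) := by
  rw [Nat.testBit_xor, fT, swap_lo _ hi, Nat.testBit_xor, U_hi h1 h2 N, V_hi h1 h2 N hi, V_lo h1 h2 N hi]
  cases M.testBit i <;> simp

theorem s_hi {i : ℕ} (hi : i < S) : (fT M d N ^^^ fV M d N).testBit (i + S) =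
    (M.testBit i && (((N.testBit i || N.testBit (i + d)) ^^ (N.testBit i || N.testBit (i + d + S))) ^^
      (N.testBit (i + S) || N.testBit (i + d)))) := by
  rw [Nat.testBit_xor, fT, swap_hi (W_bd h1 h2 N) hi, Nat.testBit_xor, U_lo h1 h2 N hi, V_lo h1 h2 N hi,
    V_hi h1 h2 N hi]
  cases M.testBit i <;> simp

theorem f_lo {i : ℕ} (hi : i < S) : (fT M d N ^^^ fU M d N).testBit i =
    (M.testBit i && (((N.testBit (i + S) || N.testBit (i + d + S)) ^^ (N.testBit (i + S) || N.testBit (i + d))) ^^
      (N.testBit i || N.testBit (i + d)))) := by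
  rw [Nat.testBit_xor, fT, swap_lo _ hi, Nat.testBit_xor, U_hi h1 h2 N, V_hi h1 h2 N hi, U_lo h1 h2 N hi]
  cases M.testBit i <;> simp

theorem f_hi {i : ℕ} (hi : i < S) : (fT M d N ^^^ fU M d N).testBit (i + S) =
    (M.testBit i && (((N.testBit i || N.testBit (i + d)) ^^ (N.testBit i || N.testBit (i + d + S))) ^^
      (N.testBit (i + S) || N.testBit (i + d + S)))) := by
  rw [Nat.testBit_xor, fT, swap_hi (W_bd h1 h2 N) hi, Nat.testBit_xor, U_lo h1 h2 N hi, V_lo h1 h2 N hi,
    U_hi h1 h2 N]
  cases M.testBit i <;> simp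

theorem s_bd (i : ℕ) (hi : 2 * S ≤ i) : (fT M d N ^^^ fV M d N).testBit i = false := by
  rw [Nat.testBit_xor, fT, swap_bd (W_bd h1 h2 N) i hi, V_bd h1 h2 N i hi, Bool.false_xor]

theorem f_bd (i : ℕ) (hi : 2 * S ≤ i) : (fT M d N ^^^ fU M d N).testBit i = false := by
  rw [Nat.testBit_xor, fT, swap_bd (W_bd h1 h2 N) i hi, U_bd h1 h2 N i hi, Bool.false_xor]

theorem bit_of_ge {i : ℕ} (hi : S ≤ i + d) : M.testBit i = false := bit_ge h2 (by omega)

/-- the masks of the other lanes -/
theorem cm_lo {i : ℕ} (hi : i < S) : (cm M d).testBit i = !(M.testBit i || (decide (d ≤ i) && M.testBit (i - d))) := by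
  show (full ^^^ (rep M ||| (rep M <<< d))).testBit i = _
  rw [Nat.testBit_xor, testBit_full, Nat.testBit_or, Nat.testBit_shiftLeft, testBit_rep_lo hi,
    testBit_rep_lo (by omega : i - d < S)]
  have : i < 2 * S := by omega
  simp only [this, decide_true, Bool.true_xor]

theorem cm_hi {i : ℕ} (hi : i < S) : (cm M d).testBit (i + S) =
    !(M.testBit i || (decide (d ≤ i) && M.testBit (i - d))) := by
  show (full ^^^ (rep M ||| (rep M <<< d))).testBit (i + S) = _
  rw [Nat.testBit_xor, testBit_full, Nat.testBit_or, Nat.testBit_shiftLeft, testBit_rep_hi (hS h1 h2)]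
  have : i + S < 2 * S := by omega
  simp only [this, decide_true, Bool.true_xor]
  congr 2
  by_cases hd : d ≤ i
  · have e : i + S - d = (i - d) + S := by omega
    rw [e, testBit_rep_hi (hS h1 h2)]
    have : d ≤ i + S := by omega
    simp [hd, this]
  · by_cases hd2 : d ≤ i + S
    · rw [testBit_rep_lo (by omega : i + S - d < S), bit_of_ge h1 h2 (by omega : S ≤ i + S - d + d)]
      simp [hd]
    · simp [hd, hd2]

theorem cm_bd (i : ℕ) (hi : 2 * S ≤ i) : ((rep M) <<< d).testBit i = false := by
  rw [Nat.testBit_shiftLeft]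
  by_cases hd : d ≤ i
  · by_cases h3 : 2 * S ≤ i - d
    · rw [bit_rep_ge (hS h1 h2) h3, Bool.and_false]
    · by_cases h4 : S ≤ i - d
      · have e : i - d = (i - d - S) + S := by omega
        rw [e, testBit_rep_hi (hS h1 h2), bit_of_ge h1 h2 (by omega : S ≤ i - d - S + d), Bool.and_false]
      · rw [testBit_rep_lo (by omega), bit_of_ge h1 h2 (by omega : S ≤ i - d + d), Bool.and_false]
  · simp [hd]

/-- the bits of the result -/
theorem out_lo {i : ℕ} (hi : i < S) : (bf (rep M) d (cm M d) N).testBit i =
    ((N.testBit i && !(M.testBit i || (decide (d ≤ i) && M.testBit (i - d)))) ||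
      ((fT M d N ^^^ fV M d N).testBit i || (decide (d ≤ i) && (fT M d N ^^^ fU M d N).testBit (i - d)))) := by
  rw [bf_eq, Nat.testBit_or, Nat.testBit_or, Nat.testBit_and, Nat.testBit_shiftLeft, cm_lo h1 h2 hi]

theorem out_hi {i : ℕ} (hi : i < S) : (bf (rep M) d (cm M d) N).testBit (i + S) =
    ((N.testBit (i + S) && !(M.testBit i || (decide (d ≤ i) && M.testBit (i - d)))) ||
      ((fT M d N ^^^ fV M d N).testBit (i + S) || (decide (d ≤ i) && (fT M d N ^^^ fU M d N).testBit (i - d + S)))) := by
  rw [bf_eq, Nat.testBit_or, Nat.testBit_or, Nat.testBit_and, Nat.testBit_shiftLeft, cm_hi h1 h2 hi]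
  congr 2
  by_cases hd : d ≤ i
  · have e : i + S - d = (i - d) + S := by omega
    have : d ≤ i + S := by omega
    rw [e]
    simp [hd, this]
  · by_cases hd2 : d ≤ i + S
    · rw [f_lo h1 h2 N (by omega : i + S - d < S), bit_of_ge h1 h2 (by omega : S ≤ i + S - d + d)]
      simp [hd]
    · simp [hd, hd2]

theorem out_bd {i : ℕ} (hN : Ok N) (hi : 2 * S ≤ i) : (bf (rep M) d (cm M d) N).testBit i = false := by
  rw [bf_eq, Nat.testBit_or, Nat.testBit_or, Nat.testBit_and, hN.bd i hi, s_bd h1 h2 N i hi, Nat.testBit_shiftLeft,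
    Bool.false_and, Bool.false_or, Bool.false_or]
  by_cases hd : d ≤ i
  · by_cases h3 : 2 * S ≤ i - d
    · rw [f_bd h1 h2 N _ h3, Bool.and_false]
    · by_cases h4 : S ≤ i - d
      · have e : i - d = (i - d - S) + S := by omega
        rw [e, f_hi h1 h2 N (by omega), bit_of_ge h1 h2 (by omega : S ≤ i - d - S + d)]
        simp
      · rw [f_lo h1 h2 N (by omega), bit_of_ge h1 h2 (by omega : S ≤ i - d + d)]
        simp
  · simp [hd]

theorem bool_sum : ∀ x1 x2 y1 y2 : Bool, ¬ (x1 = true ∧ x2 = true) → ¬ (y1 = true ∧ y2 = true) →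
    ¬ ((((x2 || y2) ^^ (x2 || y1)) ^^ (x1 || y2)) = true ∧ (((x1 || y1) ^^ (x1 || y2)) ^^ (x2 || y1)) = true) ∧
    (((if (((x2 || y2) ^^ (x2 || y1)) ^^ (x1 || y2)) then 1 else 0) - (if (((x1 || y1) ^^ (x1 || y2)) ^^ (x2 || y1)) then 1 else 0) : ZMod 3) =
      ((if x1 then 1 else 0) - (if x2 then 1 else 0)) + ((if y1 then 1 else 0) - (if y2 then 1 else 0))) := by
  decide

theorem bool_dif : ∀ x1 x2 y1 y2 : Bool, ¬ (x1 = true ∧ x2 = true) → ¬ (y1 = true ∧ y2 = true) →
    ¬ ((((x2 || y2) ^^ (x2 || y1)) ^^ (x1 || y1)) = true ∧ (((x1 || y1) ^^ (x1 || y2)) ^^ (x2 || y2)) = true) ∧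
    (((if (((x2 || y2) ^^ (x2 || y1)) ^^ (x1 || y1)) then 1 else 0) - (if (((x1 || y1) ^^ (x1 || y2)) ^^ (x2 || y2)) then 1 else 0) : ZMod 3) =
      ((if x1 then 1 else 0) - (if x2 then 1 else 0)) - ((if y1 then 1 else 0) - (if y2 then 1 else 0))) := by
  decide

/-- one lane of the result -/
theorem lane {i : ℕ} (hN : Ok N) (hi : i < S) :
    ¬ ((bf (rep M) d (cm M d) N).testBit i = true ∧ (bf (rep M) d (cm M d) N).testBit (i + S) = true) ∧
    lv (bf (rep M) d (cm M d) N) i = (if M.testBit i then lv N i + lv N (i + d)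
      else if d ≤ i ∧ M.testBit (i - d) then lv N (i - d) - lv N i else lv N i) := by
  by_cases hm : M.testBit i = true
  · have hlt : i + d < S := by
      by_contra h
      rw [bit_of_ge h1 h2 (by omega)] at hm
      exact absurd hm (by simp)
    have hd0 : (decide (d ≤ i) && M.testBit (i - d)) = false := by
      by_cases hd : d ≤ i
      · cases hb : M.testBit (i - d) with
        | false => simp
        | true =>
          have := testBit_and_shift h1 _ hb
          rw [Nat.sub_add_cancel hd, hm] at this
          exact absurd this (by simp)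
      · simp [hd]
    have hf1 : (decide (d ≤ i) && (fT M d N ^^^ fU M d N).testBit (i - d)) = false := by
      by_cases hd : d ≤ i
      · have : M.testBit (i - d) = false := by simpa [hd] using hd0
        rw [f_lo h1 h2 N (by omega), this]
        simp
      · simp [hd]
    have hf2 : (decide (d ≤ i) && (fT M d N ^^^ fU M d N).testBit (i - d + S)) = false := by
      by_cases hd : d ≤ i
      · have : M.testBit (i - d) = false := by simpa [hd] using hd0
        rw [f_hi h1 h2 N (by omega), this]
        simp
      · simp [hd]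
    have e1 := out_lo h1 h2 N hi
    have e2 := out_hi h1 h2 N hi
    rw [hf1, s_lo h1 h2 N hi, hm] at e1
    rw [hf2, s_hi h1 h2 N hi, hm] at e2
    simp only [Bool.true_or, Bool.not_true, Bool.and_false, Bool.false_or, Bool.true_and, Bool.or_false] at e1 e2
    have key := bool_sum h1 h2 (N.testBit i) (N.testBit (i + S)) (N.testBit (i + d)) (N.testBit (i + d + S))
      (hN.can i hi) (hN.can _ hlt)
    rw [if_pos hm]
    unfold lv
    rw [e1, e2]
    exact key
  · have hm' : M.testBit i = false := by simpa using hm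
    by_cases hd : d ≤ i ∧ M.testBit (i - d) = true
    · have e1 := out_lo h1 h2 N hi
      have e2 := out_hi h1 h2 N hi
      have hi' : i - d < S := by omega
      have ed : i - d + d = i := Nat.sub_add_cancel hd.1
      rw [s_lo h1 h2 N hi, hm', f_lo h1 h2 N hi', hd.2, ed] at e1
      rw [s_hi h1 h2 N hi, hm', f_hi h1 h2 N hi', hd.2, ed] at e2
      simp only [hd.1, decide_true, Bool.true_and, Bool.false_or, Bool.or_true, Bool.not_true, Bool.and_false,
        Bool.false_and] at e1 e2
      have key := bool_dif h1 h2 (N.testBit (i - d)) (N.testBit (i - d + S)) (N.testBit i) (N.testBit (i + S))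
        (hN.can _ hi') (hN.can i hi)
      rw [if_neg hm, if_pos hd]
      unfold lv
      rw [e1, e2]
      exact key
    · have hd0 : (decide (d ≤ i) && M.testBit (i - d)) = false := by
        by_cases h3 : d ≤ i
        · have : M.testBit (i - d) = false := by
            by_contra h4
            exact hd ⟨h3, by simpa using h4⟩
          simp [this]
        · simp [h3]
      have hf1 : (decide (d ≤ i) && (fT M d N ^^^ fU M d N).testBit (i - d)) = false := by
        by_cases h3 : d ≤ i
        · have : M.testBit (i - d) = false := by simpa [h3] using hd0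
          rw [f_lo h1 h2 N (by omega), this]
          simp
        · simp [h3]
      have hf2 : (decide (d ≤ i) && (fT M d N ^^^ fU M d N).testBit (i - d + S)) = false := by
        by_cases h3 : d ≤ i
        · have : M.testBit (i - d) = false := by simpa [h3] using hd0
          rw [f_hi h1 h2 N (by omega), this]
          simp
        · simp [h3]
      have e1 := out_lo h1 h2 N hi
      have e2 := out_hi h1 h2 N hi
      rw [hf1, s_lo h1 h2 N hi, hm', hd0] at e1
      rw [hf2, s_hi h1 h2 N hi, hm', hd0] at e2
      simp only [Bool.false_or, Bool.not_false, Bool.and_true, Bool.false_and, Bool.or_false] at e1 e2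
      rw [if_neg hm, if_neg hd]
      unfold lv
      rw [e1, e2]
      exact ⟨hN.can i hi, rfl⟩

theorem bf_ok {N : ℕ} (hN : Ok N) : Ok (bf (rep M) d (cm M d) N) :=
  ⟨fun i hi => (lane h1 h2 N hN hi).1, fun i hi => out_bd h1 h2 N hN hi⟩

theorem bf_v3 {N : ℕ} (hN : Ok N) (i : ℕ) : v3 (bf (rep M) d (cm M d) N) i = (if M.testBit i then v3 N i + v3 N (i + d)
      else if d ≤ i ∧ M.testBit (i - d) then v3 N (i - d) - v3 N i else v3 N i) := by
  by_cases hi : i < S
  · rw [v3_of_lt hi, (lane h1 h2 N hN hi).2]
    by_cases hm : M.testBit i = true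
    · have hlt : i + d < S := by
        by_contra h
        rw [bit_of_ge h1 h2 (by omega)] at hm
        exact absurd hm (by simp)
      rw [if_pos hm, if_pos hm, v3_of_lt hi, v3_of_lt hlt]
    · rw [if_neg hm, if_neg hm, v3_of_lt hi, v3_of_lt (by omega : i - d < S)]
  · rw [v3_of_le (by omega), bit_of_ge h1 h2 (by omega : S ≤ i + d), if_neg (by simp), v3_of_le (by omega : S ≤ i)]
    by_cases hd : d ≤ i ∧ M.testBit (i - d) = true
    · rw [bit_of_ge h1 h2 (by omega : S ≤ i - d + d)] at hd
      exact absurd hd.2 (by simp)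
    · rw [if_neg hd]

end bfly

end Cfsg.Agent.H913.U33.T3
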