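import Cfsg.Agent.H913.U33.T3B

/-!
# S5525: programs over `F₃` (helper913)
-/

set_option autoImplicit false

namespace Cfsg.Agent.H913.U33.T3

open Cfsg.Agent.Lib.PermNet Cfsg.Agent.Monster Cfsg.Agent.Monster.VecEngine

/-- Compiled programs: stages and butterflies on 16384 bits. -/
inductive P3 : Type
  | nil : P3
  | st (M d : ℕ) (P : P3) : P3
  | bf (R d C : ℕ) (P : P3) : P3

/-- The result of a compiled program. -/
noncomputable def ev (P : P3) : ℕ → ℕ :=
  P3.rec (motive := fun _ => ℕ → ℕ) (fun N => N) (fun M d _ ih N => ih (stage M d N)) (fun R d C _ ih N => ih (bf R d C N)) P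

/-- Run a compiled program. -/
noncomputable def run3 (P : P3) : ℕ → (ℕ → Bool) → Bool :=
  P3.rec (motive := fun _ => ℕ → (ℕ → Bool) → Bool) (fun N k => k N)
    (fun M d _ ih N k => seqB (stage M d N) fun y => ih y k)
    (fun R d C _ ih N k => seqB (bf R d C N) fun y => ih y k) P

theorem run3_eq (P : P3) (N : ℕ) (k : ℕ → Bool) : run3 P N k = k (ev P N) := by
  induction P generalizing N with
  | nil => rfl
  | st M d P ih =>
    show seqB (stage M d N) (fun y => run3 P y k) = _
    rw [seqB_eq, ih]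
    rfl
  | bf R d C P ih =>
    show seqB (bf R d C N) (fun y => run3 P y k) = _
    rw [seqB_eq, ih]
    rfl

/-- Compile a network. -/
noncomputable def cnet (N : Net) (P : P3) : P3 :=
  Net.rec (motive := fun _ => P3) P (fun M d _ ih => .st (rep M) d ih) N

/-- Compile. -/
noncomputable def comp (P : Prog) : P3 :=
  Prog.rec (motive := fun _ => P3) .nil
    (fun N _ ih => cnet N ih)
    (fun M _ ih => .st M 8192 ih)
    (fun M _ ih => .st M 8192 ih)
    (fun _ ih => .st lo 8192 ih)
    (fun M d _ ih => .bf (rep M) d (cm M d) ih) P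

/-- The masks of the signs are below `2 ^ 8192`. -/
noncomputable def okm (P : Prog) : Bool :=
  Prog.rec (motive := fun _ => Bool) true
    (fun _ _ ih => ih)
    (fun M _ ih => and (Nat.beq (Nat.shiftRight M 8192) 0) ih)
    (fun M _ ih => and (Nat.beq (Nat.shiftRight M 8192) 0) ih)
    (fun _ ih => ih)
    (fun _ _ _ ih => ih) P

theorem cnet_sound (L : Net) (hL : L.ok S = true) (P : P3) {N : ℕ} (hN : Ok N) :
    ∃ N', Ok N' ∧ ev (cnet L P) N = ev P N' ∧ v3 N' = fun i => v3 N (L.perm i) := by
  induction L generalizing N with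
  | nil => exact ⟨N, hN, rfl, rfl⟩
  | cons M d L ih =>
    obtain ⟨h1, h2, h3⟩ := Net.ok_cons hL
    obtain ⟨N', hN', he, hv⟩ := ih h3 (stage_ok h1 h2 hN)
    refine ⟨N', hN', he, ?_⟩
    rw [hv]
    funext i
    rw [stage_v3 h1 h2, Net.perm_cons, Equiv.Perm.mul_apply, stagePerm_apply h1]

theorem two_mul3 : ∀ x : ZMod 3, 2 * x = - x := by decide

instance fact3 : Fact (Nat.Prime 3) := ⟨by norm_num⟩

theorem two_ne3 : (2 : ZMod 3) ≠ 0 := by decide

theorem two_inv (x : ZMod 3) : (2 : ZMod 3)⁻¹ * x = - x := by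
  have h : (2 : ZMod 3) * ((2 : ZMod 3)⁻¹ * x) = x := by
    rw [← mul_assoc, mul_inv_cancel₀ two_ne3, one_mul]
  rw [two_mul3] at h
  rw [← h, neg_neg]
  rw [h]

theorem lo_shift : lo >>> S = 0 := by decide +kernel

theorem ev_sound (P : Prog) (hP : P.ok S = true) (hm : okm P = true) {N : ℕ} (hN : Ok N) :
    Ok (ev (comp P) N) ∧ v3 (ev (comp P) N) = sem (ZMod 3) P (v3 N) := by
  induction P generalizing N with
  | nil => exact ⟨hN, rfl⟩
  | perm L P ih =>
    have hP' : and (L.ok S) (P.ok S) = true := hP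
    rw [Bool.and_eq_true] at hP'
    obtain ⟨N', hN', he, hv⟩ := cnet_sound L hP'.1 (comp P) hN
    have h := ih hP'.2 hm hN'
    rw [show comp (.perm L P) = cnet L (comp P) from rfl, he]
    refine ⟨h.1, ?_⟩
    rw [h.2, hv]
    rfl
  | neg M P ih =>
    have hm' : and (Nat.beq (Nat.shiftRight M 8192) 0) (okm P) = true := hm
    rw [Bool.and_eq_true] at hm'
    have hS : M >>> S = 0 := Nat.eq_of_beq_eq_true hm'.1
    have h := ih hP hm'.2 (sg_ok hS hN)
    refine ⟨h.1, h.2.trans ?_⟩
    show sem (ZMod 3) P _ = sem (ZMod 3) P (lneg (ZMod 3) M (v3 N))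
    congr 1
    funext i
    exact sg_v3 hS N i
  | dbl M P ih =>
    have hm' : and (Nat.beq (Nat.shiftRight M 8192) 0) (okm P) = true := hm
    rw [Bool.and_eq_true] at hm'
    have hS : M >>> S = 0 := Nat.eq_of_beq_eq_true hm'.1
    have h := ih hP hm'.2 (sg_ok hS hN)
    refine ⟨h.1, h.2.trans ?_⟩
    show sem (ZMod 3) P _ = sem (ZMod 3) P (ldbl (ZMod 3) M (v3 N))
    congr 1
    funext i
    rw [show ldbl (ZMod 3) M (v3 N) i = if M.testBit i then 2 * v3 N i else v3 N i from rfl, two_mul3]
    exact sg_v3 hS N i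
  | half P ih =>
    have h := ih hP hm (sg_ok lo_shift hN)
    refine ⟨h.1, h.2.trans ?_⟩
    show sem (ZMod 3) P _ = sem (ZMod 3) P (((2 : ZMod 3)⁻¹ • LinearMap.id) (v3 N))
    congr 1
    funext i
    rw [sg_v3 lo_shift, testBit_lo]
    show _ = (2 : ZMod 3)⁻¹ * v3 N i
    rw [two_inv]
    by_cases hi : i < S
    · simp [hi]
    · rw [v3_of_le (by omega)]
      simp
  | bfly M d P ih =>
    have hP' : and (Net.ok S (.cons M d .nil)) (P.ok S) = true := hP
    rw [Bool.and_eq_true] at hP'
    obtain ⟨h1, h2, -⟩ := Net.ok_cons hP'.1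
    have h := ih hP'.2 hm (bf_ok h1 h2 hN)
    refine ⟨h.1, h.2.trans ?_⟩
    show sem (ZMod 3) P _ = sem (ZMod 3) P (lbfly (ZMod 3) M d (v3 N))
    congr 1
    funext i
    exact bf_v3 h1 h2 hN i

/-! ### Optimization: two equal consecutive sign stages cancel -/

/-- Equality of compiled programs up to removing `st lo 8192, st lo 8192`. -/
noncomputable def eqc (P : P3) : P3 → Bool :=
  P3.rec (motive := fun _ => P3 → Bool)
    (fun Q => P3.rec (motive := fun _ => Bool) true (fun _ _ _ _ => false) (fun _ _ _ _ _ => false) Q)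
    (fun M d _ ih Q => P3.rec (motive := fun _ => Bool) false
      (fun M' d' Q' _ => and (Nat.beq M M') (and (Nat.beq d d') (ih Q'))) (fun _ _ _ _ _ => false) Q)
    (fun R d C _ ih Q => P3.rec (motive := fun _ => Bool) false
      (fun _ _ _ _ => false)
      (fun R' d' C' Q' _ => and (Nat.beq R R') (and (Nat.beq d d') (and (Nat.beq C C') (ih Q')))) Q) P

theorem eqc_eq {P Q : P3} (h : eqc P Q = true) : P = Q := by
  induction P generalizing Q with
  | nil =>
    cases Q with
    | nil => rfl
    | st M' d' Q' => exact absurd (show false = true from h) (by simp)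
    | bf R' d' C' Q' => exact absurd (show false = true from h) (by simp)
  | st M d P ih =>
    cases Q with
    | nil => exact absurd (show false = true from h) (by simp)
    | st M' d' Q' =>
      have h' : and (Nat.beq M M') (and (Nat.beq d d') (eqc P Q')) = true := h
      rw [Bool.and_eq_true, Bool.and_eq_true] at h'
      rw [Nat.eq_of_beq_eq_true h'.1, Nat.eq_of_beq_eq_true h'.2.1, ih h'.2.2]
    | bf R' d' C' Q' => exact absurd (show false = true from h) (by simp)
  | bf R d C P ih =>
    cases Q with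
    | nil => exact absurd (show false = true from h) (by simp)
    | st M' d' Q' => exact absurd (show false = true from h) (by simp)
    | bf R' d' C' Q' =>
      have h' : and (Nat.beq R R') (and (Nat.beq d d') (and (Nat.beq C C') (eqc P Q'))) = true := h
      rw [Bool.and_eq_true, Bool.and_eq_true, Bool.and_eq_true] at h'
      rw [Nat.eq_of_beq_eq_true h'.1, Nat.eq_of_beq_eq_true h'.2.1, Nat.eq_of_beq_eq_true h'.2.2.1, ih h'.2.2.2]

/-- Drop `st lo 8192 (st lo 8192 nil)` at the end. -/
noncomputable def fin2 (P : P3) : P3 :=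
  P3.rec (motive := fun _ => P3) (.st lo 8192 (.st lo 8192 .nil)) (fun M d _ ih => .st M d ih) (fun R d C _ ih => .bf R d C ih) P

theorem stage_stage {M d : ℕ} (h : M &&& (M >>> d) = 0) (N : ℕ) : stage M d (stage M d N) = N := by
  apply Nat.eq_of_testBit_eq
  intro i
  rw [testBit_stage h, testBit_stage h, stagePerm_apply h, stagePerm_apply h, tau_tau h]

theorem ev_fin2 (P : P3) (N : ℕ) : ev (fin2 P) N = ev P N := by
  induction P generalizing N with
  | nil => exact stage_stage (sg_and lo_shift) N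
  | st M d P ih => exact ih _
  | bf R d C P ih => exact ih _

end Cfsg.Agent.H913.U33.T3
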